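import Groth.Agent.KTor28.Main
import Groth.Agent.OmegaLib.StalkLocal
import Groth.Agent.DCat.TorTriangle
import Groth.Agent.Surf15.IntPush

/-!
# The sequence of an effective divisor tensored with a complex of flat modules
-/

set_option autoImplicit false
set_option linter.unusedSectionVars false
set_option linter.style.haveILetI false
set_option backward.isDefEq.respectTransparency false
set_option backward.isDefEq.respectTransparency.types false
set_option maxHeartbeats 1000000

universe u

open CategoryTheory CategoryTheory.Limits AlgebraicGeometry Opposite HomologicalComplex MonoidalCategory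
open Groth.Agent Groth.Agent.ModStalk Groth.Agent.DCat

attribute [local instance] HasDerivedCategory.standard
attribute [-instance] Int.instConditionallyCompleteLinearOrder

namespace Groth.Agent.KTor28

variable {X : Scheme.{u}}

theorem shortExact_tensor_flat {M : X.Modules} (hM : FlatMod.IsFlat M) {S : ShortComplex X.Modules}
    (hS : S.ShortExact) : (S.map ((shT X).obj M)).ShortExact := by
  have hst : ∀ x : X, ((S.map ((shT X).obj M)).map (DerSch.stalkFunctor X x)).ShortExact := fun x => by
    haveI : Module.Flat (X.presheaf.stalk x) (st x M) := hM x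
    let T := S.map (DerSch.stalkFunctor X x)
    have hT : T.ShortExact := hS.map_of_exact _
    have hi := (ModuleCat.mono_iff_injective T.f).1 hT.mono_f
    have hs := (ModuleCat.epi_iff_surjective T.g).1 hT.epi_g
    have hex := (ShortComplex.ShortExact.moduleCat_exact_iff_function_exact T).1 hT.exact
    have h1 : (T.map (tensorLeft (st x M))).ShortExact := by
      refine ShortComplex.ShortExact.mk' ?_ ?_ ?_
      · exact (ShortComplex.ShortExact.moduleCat_exact_iff_function_exact _).2 (Module.Flat.lTensor_exact (st x M) hex)
      · exact (ModuleCat.mono_iff_injective _).2 (Module.Flat.lTensor_preserves_injective_linearMap T.f.hom hi)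
      · exact (ModuleCat.epi_iff_surjective _).2 (LinearMap.lTensor_surjective _ hs)
    exact (ShortComplex.shortExact_iff_of_iso (ShortComplex.isoMk (stalkTensorIso x M S.X₁) (stalkTensorIso x M S.X₂)
      (stalkTensorIso x M S.X₃) (stalkTensor_nat₂ x M S.f).symm (stalkTensor_nat₂ x M S.g).symm)).2 h1
  refine ShortComplex.ShortExact.mk' (OmegaLib.exact_of_stalks _ fun x => (hst x).exact) ?_ ?_
  · refine Preadditive.mono_of_isZero_kernel _ (isZero_of_stalks fun x => ?_)
    haveI : Mono ((DerSch.stalkFunctor X x).map (S.map ((shT X).obj M)).f) := (hst x).mono_f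
    exact IsZero.of_iso (isZero_kernel_of_mono ((DerSch.stalkFunctor X x).map (S.map ((shT X).obj M)).f))
      (PreservesKernel.iso (DerSch.stalkFunctor X x) _)
  · exact OmegaLib.epi_of_stalks_surjective _ fun x => (ModuleCat.epi_iff_surjective _).1 (hst x).epi_g

theorem shortExact_ideal' (I : X.IdealSheafData) :
    (ShortComplex.mk (ClSub.idealModι I) (ClSub.toSubscheme I) (kernel.condition _)).ShortExact :=
  haveI := CurveRR24.epi_toSubscheme I
  haveI := AmpleLib.mono_idealModι I
  { exact := ShortComplex.exact_of_f_is_kernel _ (kernelIsKernel (ClSub.toSubscheme I)) }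

/-- Tensoring on the right with a fixed module. -/
noncomputable abbrev tenR (M : X.Modules) : X.Modules ⥤ X.Modules := (shT X).flip.obj M

theorem preservesHomology_tenR {J : X.Modules} (hJ : FlatMod.IsFlat J) : (tenR J).PreservesHomology := by
  obtain ⟨_, _⟩ := ((Functor.exact_tfae ((shT X).obj J)).out 0 3).1
    (fun S hS => shortExact_tensor_flat hJ hS)
  haveI : PreservesFiniteLimits (tenR J) := ⟨fun K _ _ => by
    haveI : PreservesLimitsOfShape K ((shT X).obj J) := PreservesFiniteLimits.preservesFiniteLimits K
    exact preservesLimitsOfShape_of_natIso (PhiDiag.comm J).symm⟩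
  haveI : PreservesFiniteColimits (tenR J) := ⟨fun K _ _ => by
    haveI : PreservesColimitsOfShape K ((shT X).obj J) := PreservesFiniteColimits.preservesFiniteColimits K
    exact preservesColimitsOfShape_of_natIso (PhiDiag.comm J).symm⟩
  infer_instance

/-- A morphism of modules killing, tensored with a killed module, vanishes. -/
theorem tensor_idealModι_eq_zero (I : X.IdealSheafData) (H : X.Modules)
    (hH : ∀ (x : X) (U : X.Opens) (hx : x ∈ U) (k : Γ(ClSub.idealMod I, U)) (t : st x H),
      X.presheaf.germ U x hx (OmegaSh.idealSect I U k) • t = 0) :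
    ((shT X).obj H).map (ClSub.idealModι I) = 0 := by
  refine Scheme.Modules.hom_ext _ _ fun U => ConcreteCategory.hom_ext _ _ fun s => gm_ext _ fun x hx => ?_
  rw [← gm_map]
  show _ = gm _ hx 0
  rw [gm_zero]
  suffices h : ∀ t : st x (((shT X).obj H).obj (ClSub.idealMod I)),
      (DerSch.stalkFunctor X x).map (((shT X).obj H).map (ClSub.idealModι I)) t = 0 from h _
  intro t
  refine (stalkTensorIso x H (Coh.structureModule X)).toLinearEquiv.injective ?_
  show (stalkTensorIso x H _).hom _ = (stalkTensorIso x H _).toLinearEquiv 0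
  rw [map_zero, ← ConcreteCategory.comp_apply, stalkTensor_nat₂, ConcreteCategory.comp_apply]
  generalize (stalkTensorIso x H (ClSub.idealMod I)).hom t = v
  induction v using TensorProduct.induction_on with
  | zero => exact map_zero _
  | tmul a b =>
    obtain ⟨W, hW, k, rfl⟩ := exists_gm (ClSub.idealMod I) b
    show a ⊗ₜ (DerSch.stalkFunctor X x).map (ClSub.idealModι I) (gm _ hW k) = 0
    rw [gm_map]
    have h1 : (ClSub.idealModι I).app W k =
        OmegaSh.idealSect I W k • (show Γ(Coh.structureModule X, W) from (1 : Γ(X, W))) :=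
      (mul_one (OmegaSh.idealSect I W k)).symm
    rw [h1, gm_smul, TensorProduct.tmul_smul, TensorProduct.smul_tmul', hH x W hW k a, TensorProduct.zero_tmul]
  | add v w hv hw => rw [map_add, hv, hw, add_zero]

section Seq

variable {Z : Scheme.{u}} (j : Z ⟶ X) [IsClosedImmersion j]

/-- Tensoring with the quotient of the ideal is `j_* j^*`. -/
noncomputable def tenQuotIso : tenR (ClSub.quotMod j.ker) ≅ Scheme.Modules.pullback j ⋙ Scheme.Modules.pushforward j :=
  (shT X).flip.mapIso (Surf15.nonempty_push_iso_quotMod j).some.symm ≪≫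
    (NatIso.ofComponents (fun N => Iso.refl _) (fun {N N'} φ => (Category.comp_id _).trans (Category.id_comp _).symm) :
      DCoh.tensorRightMod ((Scheme.Modules.pushforward j).obj (Coh.structureModule Z)) ≅
        (shT X).flip.obj ((Scheme.Modules.pushforward j).obj (Coh.structureModule Z))).symm ≪≫
    tensorPushIso j

/-- The morphism `- ⊗ J → -`. -/
noncomputable def tenι (I : X.IdealSheafData) : tenR (ClSub.idealMod I) ⟶ 𝟭 X.Modules :=
  (shT X).flip.map (ClSub.idealModι I) ≫ (RHomLeft.rightUnitIso X).hom

/-- The morphism `- → j_* j^*`. -/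
noncomputable def tenπ : 𝟭 X.Modules ⟶ Scheme.Modules.pullback j ⋙ Scheme.Modules.pushforward j :=
  (RHomLeft.rightUnitIso X).inv ≫ (shT X).flip.map (ClSub.toSubscheme j.ker) ≫ (tenQuotIso j).hom

theorem tenι_tenπ (M : X.Modules) : (tenι j.ker).app M ≫ (tenπ j).app M = 0 := by
  simp only [tenι, tenπ, NatTrans.comp_app, Category.assoc, Iso.hom_inv_id_app_assoc]
  rw [← Category.assoc]
  convert zero_comp
  show ((shT X).obj M).map (ClSub.idealModι j.ker) ≫ ((shT X).obj M).map (ClSub.toSubscheme j.ker) = 0
  rw [← Functor.map_comp, show ClSub.idealModι j.ker ≫ ClSub.toSubscheme j.ker = 0 from kernel.condition _, Functor.map_zero]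

/-- The divisor sequence at a module. -/
noncomputable abbrev divSeq (M : X.Modules) : ShortComplex X.Modules :=
  ShortComplex.mk ((tenι j.ker).app M) ((tenπ j).app M) (tenι_tenπ j M)

theorem divSeq_shortExact {M : X.Modules} (hM : FlatMod.IsFlat M) : (divSeq j M).ShortExact := by
  refine (ShortComplex.shortExact_iff_of_iso ?_).1 (shortExact_tensor_flat hM (shortExact_ideal' j.ker))
  refine ShortComplex.isoMk (Iso.refl _) ((RHomLeft.rightUnitIso X).app M) ((tenQuotIso j).app M) ?_ ?_
  · exact Category.id_comp _
  · exact (Iso.hom_inv_id_app_assoc (RHomLeft.rightUnitIso X) M _)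

variable (K : CochainComplex X.Modules ℤ)

/-- The divisor sequence of a complex. -/
noncomputable abbrev divCx : ShortComplex (CochainComplex X.Modules ℤ) :=
  ShortComplex.mk ((NatTrans.mapHomologicalComplex (tenι j.ker) (ComplexShape.up ℤ)).app K ≫
      (Functor.mapHomologicalComplexIdIso _ _).hom.app K)
    ((Functor.mapHomologicalComplexIdIso _ _).inv.app K ≫
      (NatTrans.mapHomologicalComplex (tenπ j) (ComplexShape.up ℤ)).app K) (by
      refine HomologicalComplex.hom_ext _ _ fun n => ?_
      simp only [HomologicalComplex.comp_f, NatTrans.mapHomologicalComplex_app_f,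
        Functor.mapHomologicalComplexIdIso_hom_app_f, Functor.mapHomologicalComplexIdIso_inv_app_f,
        HomologicalComplex.zero_f]
      erw [Category.comp_id, Category.id_comp]
      exact tenι_tenπ j (K.X n))

theorem divCx_shortExact (hK : ∀ n, FlatMod.IsFlat (K.X n)) : (divCx j K).ShortExact := by
  refine HomologicalComplex.shortExact_of_degreewise_shortExact _ fun n => ?_
  refine (ShortComplex.shortExact_iff_of_iso (ShortComplex.isoMk (Iso.refl _) (Iso.refl _) (Iso.refl _) ?_ ?_)).1
    (divSeq_shortExact j (hK n))
  · simp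
  · simp

theorem homologyMap_divCx_eq_zero (hJ : FlatMod.IsFlat (ClSub.idealMod j.ker)) (n : ℤ)
    (hH : ∀ (x : X) (U : X.Opens) (hx : x ∈ U) (k : Γ(ClSub.idealMod j.ker, U)) (t : st x (K.homology n)),
      X.presheaf.germ U x hx (OmegaSh.idealSect j.ker U k) • t = 0) :
    homologyMap (divCx j K).f n = 0 := by
  haveI := preservesHomology_tenR hJ
  have h := NatTrans.app_homology (tenι j.ker) (K.sc n)
  have h0 : (tenι j.ker).app (K.sc n).homology = 0 := by
    show ((shT X).obj (K.homology n)).map (ClSub.idealModι j.ker) ≫ _ = 0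
    rw [tensor_idealModι_eq_zero j.ker _ hH, zero_comp]
  rw [h0] at h
  have h1 : ShortComplex.homologyMap ((K.sc n).mapNatTrans (tenι j.ker)) = 0 := by
    have := congrArg (fun t => ((K.sc n).mapHomologyIso (tenR (ClSub.idealMod j.ker))).hom ≫ t ≫
      ((K.sc n).mapHomologyIso (𝟭 X.Modules)).inv) h
    simpa using this.symm
  have h2 : (shortComplexFunctor X.Modules (ComplexShape.up ℤ) n).map (divCx j K).f =
      (K.sc n).mapNatTrans (tenι j.ker) := by
    apply ShortComplex.hom_ext <;> exact Category.comp_id _
  show ShortComplex.homologyMap _ = 0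
  rw [h2]
  exact h1

end Seq

end Groth.Agent.KTor28
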