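import Groth.Agent.DQCoh.FlatQCohCover17
import Groth.Agent.Coherent.CohBC.SectionsCalculus
import Groth.Agent.ModStalk.Pullback
import Mathlib.Algebra.Homology.ShortComplex.ExactFunctor

/-!
# Pullback commutes with cohomology of flat bounded above complexes with flat cohomology
-/

set_option autoImplicit false
set_option linter.unusedSectionVars false
set_option linter.style.haveILetI false
set_option backward.isDefEq.respectTransparency false
set_option backward.isDefEq.respectTransparency.types false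
set_option maxHeartbeats 1000000

universe u

open CategoryTheory CategoryTheory.Limits AlgebraicGeometry HomologicalComplex
open Groth.Agent

namespace Groth.Agent.KTor28

variable {X Y : Scheme.{u}} (g : X ⟶ Y)

/-- Pullback preserves monomorphisms with flat cokernel. -/
theorem mono_pullback_of_flat {S : ShortComplex Y.Modules} (hS : S.ShortExact) (h₃ : FlatMod.IsFlat S.X₃) :
    Mono ((Scheme.Modules.pullback g).map S.f) := by
  refine Preadditive.mono_of_isZero_kernel _ (ModStalk.isZero_of_stalks fun x => ?_)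
  let T := S.map (DerSch.stalkFunctor Y (g.base x))
  have hT : T.ShortExact := hS.map_of_exact _
  haveI : Module.Flat (Y.presheaf.stalk (g.base x)) T.X₃ := h₃ (g.base x)
  letI := (g.stalkMap x).hom.toAlgebra
  haveI : Mono ((ModuleCat.extendScalars (g.stalkMap x).hom).map T.f) := by
    rw [ModuleCat.mono_iff_injective]
    exact LinearMap.lTensor_injective_of_exact_of_flat T.g.hom ((ModuleCat.epi_iff_surjective T.g).1 hT.epi_g) T.f.hom
      ((ModuleCat.mono_iff_injective T.f).1 hT.mono_f)
      ((ShortComplex.ShortExact.moduleCat_exact_iff_function_exact T).1 hT.exact) (X.presheaf.stalk x)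
  haveI : Mono ((DerSch.stalkFunctor X x).map ((Scheme.Modules.pullback g).map S.f)) :=
    (MorphismProperty.monomorphisms (ModuleCat (X.presheaf.stalk x))).arrow_mk_iso_iff
      (Arrow.isoMk (f := Arrow.mk ((DerSch.stalkFunctor X x).map ((Scheme.Modules.pullback g).map S.f)))
        (g := Arrow.mk ((ModuleCat.extendScalars (g.stalkMap x).hom).map T.f))
        ((ModStalk.pullbackStalkIso g x).app S.X₁) ((ModStalk.pullbackStalkIso g x).app S.X₂)
        ((ModStalk.pullbackStalkIso g x).hom.naturality S.f).symm) |>.2 ‹_›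
  exact IsZero.of_iso (isZero_kernel_of_mono _)
    (PreservesKernel.iso (DerSch.stalkFunctor X x) ((Scheme.Modules.pullback g).map S.f))

variable (Q : CochainComplex Y.Modules ℤ)

/-- Boundaries inside cycles. -/
noncomputable abbrev bnd (n : ℤ) : Y.Modules := kernel (Q.homologyπ n)

/-- The sequence of boundaries, cycles, cohomology. -/
noncomputable abbrev bndSeq (n : ℤ) : ShortComplex Y.Modules :=
  ShortComplex.mk (kernel.ι (Q.homologyπ n)) (Q.homologyπ n) (kernel.condition _)

theorem bndSeq_shortExact (n : ℤ) : (bndSeq Q n).ShortExact :=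
  ShortComplex.ShortExact.mk' (ShortComplex.exact_of_f_is_kernel _ (kernelIsKernel _)) inferInstance inferInstance

/-- The differential onto boundaries. -/
noncomputable abbrev toBnd (n : ℤ) : Q.X n ⟶ bnd Q (n + 1) :=
  kernel.lift _ (Q.toCycles n (n + 1)) (toCycles_comp_homologyπ _ _ _)

/-- The sequence of cycles, chains, boundaries. -/
noncomputable abbrev cycSeq (n : ℤ) : ShortComplex Y.Modules :=
  ShortComplex.mk (Q.iCycles n) (toBnd Q n) (by
    apply Fork.IsLimit.hom_ext (kernelIsKernel (Q.homologyπ (n + 1)))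
    simp only [Fork.ι_ofι, Category.assoc, kernel.lift_ι, zero_comp]
    rw [← cancel_mono (Q.iCycles (n + 1)), Category.assoc, toCycles_i, iCycles_d, zero_comp])

theorem cycSeq_shortExact (n : ℤ) : (cycSeq Q n).ShortExact := by
  haveI : Epi (toBnd Q n) := by
    have h : (ShortComplex.mk (Q.toCycles n (n + 1)) (Q.homologyπ (n + 1)) (toCycles_comp_homologyπ _ _ _)).Exact :=
      ShortComplex.exact_of_g_is_cokernel _ (Q.homologyIsCokernel n (n + 1) (by simp))
    exact (ShortComplex.exact_iff_epi_kernel_lift _).1 h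
  refine ShortComplex.ShortExact.mk' (ShortComplex.exact_of_f_is_kernel _ ?_) inferInstance inferInstance
  refine isKernelOfComp (f := toBnd Q n) (kernel.ι _ ≫ Q.iCycles (n + 1)) (Q.d n (n + 1))
    (Q.cyclesIsKernel n (n + 1) (by simp)) _ ?_
  show kernel.lift _ _ _ ≫ kernel.ι _ ≫ Q.iCycles (n + 1) = _
  rw [kernel.lift_ι_assoc, toCycles_i]

theorem flat_cycles (hQ : ∀ n, FlatMod.IsFlat (Q.X n)) (hQ0 : ∀ n : ℤ, 0 < n → IsZero (Q.X n))
    (hH : ∀ n : ℤ, FlatMod.IsFlat (Q.homology n)) (n : ℤ) : FlatMod.IsFlat (Q.cycles n) := by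
  have hbase : ∀ m : ℤ, 0 < m → FlatMod.IsFlat (Q.cycles m) := fun m hm =>
    DCat.isFlat_of_isZero (IsZero.of_mono (Q.iCycles m) (hQ0 m hm))
  suffices h : ∀ (k : ℕ) (m : ℤ), m = 1 - (k : ℤ) → FlatMod.IsFlat (Q.cycles m) by
    rcases lt_or_ge 0 n with hn | hn
    · exact hbase n hn
    · exact h (1 - n).toNat n (by omega)
  intro k
  induction k with
  | zero => exact fun m hm => hbase m (by omega)
  | succ k ih =>
    intro m hm x
    have hb : FlatMod.IsFlatAt (bnd Q (m + 1)) x :=
      (Groth.Agent.DQCoh.FlatQCoh17.flat_ses (bndSeq_shortExact Q (m + 1)) x (hH _ x)).2 (ih (m + 1) (by omega) x)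
    exact (Groth.Agent.DQCoh.FlatQCoh17.flat_ses (cycSeq_shortExact Q m) x hb).2 (hQ _ x)

/-- The cohomology of the pullback. -/
theorem nonempty_pullback_homology_iso (hQ : ∀ n, FlatMod.IsFlat (Q.X n)) (hQ0 : ∀ n : ℤ, 0 < n → IsZero (Q.X n))
    (hH : ∀ n : ℤ, FlatMod.IsFlat (Q.homology n)) (n : ℤ) :
    Nonempty ((((Scheme.Modules.pullback g).mapHomologicalComplex (ComplexShape.up ℤ)).obj Q).homology n ≅
      (Scheme.Modules.pullback g).obj (Q.homology n)) := by
  let F := Scheme.Modules.pullback g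
  haveI : F.IsLeftAdjoint := (Scheme.Modules.pullbackPushforwardAdjunction g).isLeftAdjoint
  haveI : PreservesFiniteColimits F := inferInstance
  have hB : ∀ m, FlatMod.IsFlat (bnd Q m) := fun m x =>
    (Groth.Agent.DQCoh.FlatQCoh17.flat_ses (bndSeq_shortExact Q m) x (hH _ x)).2 (flat_cycles Q hQ hQ0 hH m x)
  haveI h1 : Mono (F.map (Q.iCycles (n + 1))) := mono_pullback_of_flat g (cycSeq_shortExact Q (n + 1)) (hB _)
  haveI h2 : Mono (F.map (kernel.ι (Q.homologyπ (n + 1)))) := mono_pullback_of_flat g (bndSeq_shortExact Q (n + 1)) (hH _)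
  have hex := (Coherent.CohBC.pullback_exact_of_shortExact g (cycSeq Q n) (cycSeq_shortExact Q n)).1
  haveI h3 : Mono (F.map (Q.iCycles n)) := mono_pullback_of_flat g (cycSeq_shortExact Q n) (hB _)
  haveI : Mono ((cycSeq Q n).map F).f := h3
  have hd : F.map (Q.d n (n + 1)) = F.map (toBnd Q n) ≫ F.map (kernel.ι _) ≫ F.map (Q.iCycles (n + 1)) := by
    rw [← F.map_comp, ← F.map_comp, kernel.lift_ι_assoc, toCycles_i]
  haveI hg : PreservesLimit (parallelPair (Q.d n (n + 1)) 0) F := by
    refine preservesLimit_of_preserves_limit_cone (Q.cyclesIsKernel n (n + 1) (by simp))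
      ((isLimitMapConeForkEquiv' F (Q.iCycles_d n (n + 1))).symm ?_)
    exact isKernelCompMono hex.fIsKernel (F.map (kernel.ι _) ≫ F.map (Q.iCycles (n + 1))) hd
  let h := (Q.sc' (n - 1) n (n + 1)).leftHomologyData
  haveI : h.IsPreservedBy F := ⟨hg, inferInstance⟩
  haveI : F.PreservesLeftHomologyOf (Q.sc' (n - 1) n (n + 1)) := Functor.PreservesLeftHomologyOf.mk' F h
  exact ⟨HomologicalComplex.homologyIsoSc' _ (n - 1) n (n + 1) (by simp) (by simp) ≪≫
    (Q.sc' (n - 1) n (n + 1)).mapHomologyIso F ≪≫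
    F.mapIso (HomologicalComplex.homologyIsoSc' _ (n - 1) n (n + 1) (by simp) (by simp)).symm⟩

end Groth.Agent.KTor28
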