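import Groth.Agent.KTor28.Divisor
import Groth.Agent.DCat.ProjPerfMap
import Groth.Agent.DQCoh.PerfectTor
import Groth.Agent.Coherent.HigherQcoh
import Groth.Agent.KZeroLib.RegularPerfect
import Groth.Agent.FlatMor12.IdealModGen
import Groth.Agent.KBlow28.PushPull
import Groth.Agent.ExtFilt28.LocFree
import Groth.Agent.Coherent.ProjSpaceBC

/-!
# Direct images of bundles on an effective divisor are perfect
-/

set_option autoImplicit false
set_option linter.unusedSectionVars false
set_option linter.style.haveILetI false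
set_option backward.isDefEq.respectTransparency false
set_option backward.isDefEq.respectTransparency.types false
set_option maxHeartbeats 1000000

universe u

open CategoryTheory CategoryTheory.Limits AlgebraicGeometry
open Groth.Agent Groth.Agent.DCat

attribute [local instance] HasDerivedCategory.standard
attribute [-instance] Int.instConditionallyCompleteLinearOrder

namespace Groth.Agent.KTor28

variable {X Z : Scheme.{u}} (j : Z ⟶ X) [IsClosedImmersion j]

theorem isFinLocFree_ideal (hJ : BlowUp.IsEffCartierIdeal j.ker) : FlatMod.IsFinLocFree (ClSub.idealMod j.ker) :=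
  Coherent.isFinLocFree_of_invertible (FlatMor12.IdealModGen.isInvertible_idealMod _ hJ)

theorem nonempty_pullback_free (h : Z ⟶ X) (p : ℕ) :
    Nonempty ((Scheme.Modules.pullback h).obj (FlatMod.freeMod X p) ≅ FlatMod.freeMod Z p) := by
  haveI := (Scheme.Modules.pullbackPushforwardAdjunction h).leftAdjoint_preservesColimits
  obtain ⟨e₁⟩ := AmpleLib.exists_pullStructureIso h
  exact ⟨PreservesCoproduct.iso (Scheme.Modules.pullback h) _ ≪≫ Sigma.mapIso fun _ => e₁⟩

theorem isPerfect_push_free (hJ : BlowUp.IsEffCartierIdeal j.ker) (n : ℕ) :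
    DCoh.IsPerfect (DCoh.inD X ((Scheme.Modules.pushforward j).obj (FlatMod.freeMod Z n))) := by
  have hfree : FlatMod.IsFinLocFree (FlatMod.freeMod X n) := ProjPerf.isFinLocFree_freeMod n
  have hS := divSeq_shortExact j (PullPerf.isFlat_of_finLocFree hfree)
  have h1 : DCoh.IsPerfect (DCoh.inD X (divSeq j (FlatMod.freeMod X n)).X₁) :=
    KZeroLib.isPerfect_inD_finLocFree (ExtFilt28.isFinLocFree_tensor hfree (isFinLocFree_ideal j hJ))
  have h2 : DCoh.IsPerfect (DCoh.inD X (divSeq j (FlatMod.freeMod X n)).X₂) :=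
    KZeroLib.isPerfect_inD_finLocFree hfree
  have h3 := (PCTriangle.perfect_two_out_of_three hS.singleTriangle_distinguished).1 h1 h2
  exact PCTriangle.perfect_iso ((DerivedCategory.singleFunctor X.Modules 0).mapIso
    ((Scheme.Modules.pushforward j).mapIso (nonempty_pullback_free j n).some)) h3

/-- Direct images of bundles on an effective divisor are perfect. -/
theorem isPerfect_push (hJ : BlowUp.IsEffCartierIdeal j.ker) {E : Z.Modules} (hE : FlatMod.IsFinLocFree E) :
    DCoh.IsPerfect (DCoh.inD X ((Scheme.Modules.pushforward j).obj E)) := by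
  refine DQCoh.isPerfect_of_local _ fun x => ?_
  obtain ⟨U, hxU, n, ⟨e⟩⟩ : ∃ (U : X.Opens), x ∈ U ∧ ∃ n : ℕ,
      Nonempty ((Scheme.Modules.restrictFunctor (j ⁻¹ᵁ U).ι).obj E ≅
        (Scheme.Modules.restrictFunctor (j ⁻¹ᵁ U).ι).obj (FlatMod.freeMod Z n)) := by
    by_cases hx : x ∈ Set.range j
    · obtain ⟨y, rfl⟩ := hx
      obtain ⟨V, n, hyV, ⟨e⟩⟩ := hE y
      obtain ⟨U, hU⟩ := DCat.ClosedPush.exists_preimage j V
      subst hU
      exact ⟨U, hyV, n, ⟨e ≪≫ (nonempty_pullback_free (j ⁻¹ᵁ U).ι n).some.symm ≪≫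
        ((Scheme.Modules.restrictFunctorIsoPullback (j ⁻¹ᵁ U).ι).app _).symm⟩⟩
    · let U : X.Opens := ⟨(Set.range j)ᶜ, j.isClosedEmbedding.isClosed_range.isOpen_compl⟩
      have hz : ∀ M : (j ⁻¹ᵁ U : Scheme.{u}).Modules, IsZero M := fun M =>
        ModStalk.isZero_of_stalks fun z => absurd ⟨z.1, rfl⟩ z.2
      exact ⟨U, hx, 0, ⟨(hz _).iso (hz _)⟩⟩
  refine ⟨(U : Scheme.{u}), U.ι, inferInstance, by rw [Scheme.Opens.opensRange_ι]; exact hxU, ?_⟩
  have e' : (Scheme.Modules.restrictFunctor U.ι).obj ((Scheme.Modules.pushforward j).obj E) ≅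
      (Scheme.Modules.restrictFunctor U.ι).obj ((Scheme.Modules.pushforward j).obj (FlatMod.freeMod Z n)) :=
    (Coherent.pushRestrictIso j U).app E ≪≫ (Coh.push (j ∣_ U)).mapIso e ≪≫
      ((Coherent.pushRestrictIso j U).app _).symm
  refine PCTriangle.perfect_iso ?_ (Dual22Lib.PerfLift.isPerfect_restrictD U.ι (isPerfect_push_free j hJ n))
  exact ((Scheme.Modules.restrictFunctor U.ι).mapDerivedCategorySingleFunctor 0).app _ ≪≫
    (DerivedCategory.singleFunctor _ 0).mapIso e'.symm ≪≫
    (((Scheme.Modules.restrictFunctor U.ι).mapDerivedCategorySingleFunctor 0).app _).symm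

end Groth.Agent.KTor28
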