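import Groth.Agent.KTor28.Kill
import Groth.Agent.KTor28.PullHomology
import Groth.Agent.KTor28.PushPerf
import Groth.Agent.Omega15.ConormalBC
import Groth.Agent.ExtPowEx28.Basic
import Groth.Agent.WedgeDual5.Sheaf

/-!
# Excess sequences: `H(f^* P)` for a flat resolution `P` of `i_* M` and a divisor `Y' = f⁻¹ Y`
-/

set_option autoImplicit false
set_option linter.unusedSectionVars false
set_option linter.style.haveILetI false
set_option backward.isDefEq.respectTransparency false
set_option backward.isDefEq.respectTransparency.types false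
set_option maxHeartbeats 1000000

universe u

open CategoryTheory CategoryTheory.Limits AlgebraicGeometry HomologicalComplex
open Groth.Agent Groth.Agent.DCat Groth.Agent.Thick15

attribute [local instance] HasDerivedCategory.standard
attribute [-instance] Int.instConditionallyCompleteLinearOrder

namespace Groth.Agent.KTor28

variable {X Y X' Y' : Scheme.{u}} {i : Y ⟶ X} {f : X' ⟶ X} {j : Y' ⟶ X'} {g : Y' ⟶ Y}
  [IsClosedImmersion i] [IsClosedImmersion j]

theorem smul_st_push_eq_zero (M : Y.Modules) (w : Y) {y : X} (h : i w = y) {a : X.presheaf.stalk y}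
    (ha : a ∈ RingHom.ker (tm i h).hom) (t : st y ((Scheme.Modules.pushforward i).obj M)) : a • t = 0 := by
  subst h
  rw [tm_self, RingHom.mem_ker] at ha
  exact ClosedPush.smul_stalk_push i M w a ha t

/-- The ideal of the divisor kills the stalks of the cohomology. -/
theorem germ_smul_homology (hsq : IsPullback j g f i) {M : Y.Modules} {P : CochainComplex X.Modules ℤ}
    (c : P ⟶ (single X.Modules (ComplexShape.up ℤ) 0).obj ((Scheme.Modules.pushforward i).obj M)) [QuasiIso c]
    (hP : ∀ n : ℤ, 0 < n → IsZero (P.X n)) (hflat : ∀ n, FlatMod.IsFlat (P.X n)) (n : ℤ)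
    (x : X') (U : X'.Opens) (hx : x ∈ U) (k : Γ(ClSub.idealMod j.ker, U)) (t : st x ((pullf f P).homology n)) :
    X'.presheaf.germ U x hx (OmegaSh.idealSect j.ker U k) • t = 0 := by
  rcases lt_or_ge 0 n with hn | hn
  · have h0 : IsZero ((pullf f P).homology n) := (HomologicalComplex.exactAt_iff_isZero_homology _ _).1
      (ShortComplex.exact_of_isZero_X₂ _ ((Scheme.Modules.pullback f).map_isZero (hP n hn)))
    haveI : Subsingleton (st x ((pullf f P).homology n)) :=
      ModuleCat.subsingleton_of_isZero ((DerSch.stalkFunctor X' x).map_isZero h0)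
    exact Subsingleton.elim _ _
  obtain ⟨q, rfl⟩ : ∃ q : ℕ, n = -(q : ℤ) := ⟨(-n).toNat, by omega⟩
  refine smul_homology_stalk f c hP hflat x _ ?_ q t
  by_cases hxr : x ∈ Set.range j
  · obtain ⟨z, rfl⟩ := hxr
    have hm := Omega15.germ_idealSect_mem j z rfl U hx k
    have hwy : i (g z) = f (j z) := (Scheme.Hom.comp_apply g i z).symm.trans
      ((congrArg (fun h : Y' ⟶ X => h z) hsq.w.symm).trans (Scheme.Hom.comp_apply j f z))
    rw [Omega15.ker_tm_of_isPullback hsq z rfl (y' := f (j z)) rfl hwy, tm_self] at hm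
    refine Ideal.map_mono (fun a ha => Module.mem_annihilator.2 fun s => ?_) hm
    exact smul_st_push_eq_zero M (g z) hwy ha s
  · have hy : f x ∉ Set.range i.base := by
      rintro ⟨w, hw⟩
      obtain ⟨p, hp, -⟩ := Scheme.Pullback.exists_preimage_pullback (f := f) (g := i) x w hw.symm
      refine hxr ⟨hsq.isoPullback.inv p, ?_⟩
      rw [← Scheme.Hom.comp_apply, hsq.isoPullback_inv_fst, hp]
    haveI := ClosedPush.subsingleton_stalk_push i M (f x) hy
    have htop : Module.annihilator (X.presheaf.stalk (f.base x)) ↥(st (f.base x) ((Scheme.Modules.pushforward i).obj M)) = ⊤ :=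
      eq_top_iff.2 fun a _ => Module.mem_annihilator.2 fun s => Subsingleton.elim _ _
    rw [htop, Ideal.map_top]
    exact Submodule.mem_top

/-- `j^* f^* = g^* i^*`. -/
noncomputable def pullSquareIso (hsq : IsPullback j g f i) :
    Scheme.Modules.pullback f ⋙ Scheme.Modules.pullback j ≅ Scheme.Modules.pullback i ⋙ Scheme.Modules.pullback g :=
  Scheme.Modules.pullbackComp j f ≪≫ Scheme.Modules.pullbackCongr hsq.w ≪≫ (Scheme.Modules.pullbackComp g i).symm

variable (hsq : IsPullback j g f i) (hJ : BlowUp.IsEffCartierIdeal j.ker) (hfr : HasFrames i)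
  (hN : FlatMod.IsFinLocFree (Omega.conormal i)) {M : Y.Modules} (hM : FlatMod.IsFinLocFree M)
  {P : CochainComplex X.Modules ℤ}
  (c : P ⟶ (single X.Modules (ComplexShape.up ℤ) 0).obj ((Scheme.Modules.pushforward i).obj M)) [QuasiIso c]
  (hP : ∀ n : ℤ, 0 < n → IsZero (P.X n)) (hflat : ∀ n, FlatMod.IsFlat (P.X n))

include hsq hfr hN hM c hP hflat in
theorem nonempty_X₃_homology_iso (q : ℕ) {L : Y.Modules} (hL : ExtPow.IsExtPow q (Omega.conormal i) L) :
    Nonempty ((divCx j (pullf f P)).X₃.homology (-(q : ℤ)) ≅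
      (Scheme.Modules.pushforward j).obj ((Scheme.Modules.pullback g).obj (CohB1.tensorMod M L))) := by
  let F := Scheme.Modules.pullback g
  let Q := pullCx i P
  have hQ : ∀ n, FlatMod.IsFlat (Q.X n) := fun n => DCat.isFlat_pullback i (hflat n)
  have hQ0 : ∀ n : ℤ, 0 < n → IsZero (Q.X n) := fun n hn => (Scheme.Modules.pullback i).map_isZero (hP n hn)
  have hH : ∀ n : ℤ, FlatMod.IsFlat (Q.homology n) := fun n => by
    rcases lt_or_ge 0 n with hn | hn
    · exact DCat.isFlat_of_isZero (ShortComplex.isZero_homology_of_isZero_X₂ (Q.sc n) (hQ0 n hn))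
    obtain ⟨p, rfl⟩ : ∃ p : ℕ, n = -(p : ℤ) := ⟨(-n).toNat, by omega⟩
    obtain ⟨L', hLf, hL'⟩ := ExtPowEx28.exists_isExtPow hN p
    obtain ⟨e⟩ := nonempty_homology_iso i hfr hM hL' c hP hflat
    exact DCat.isFlat_of_iso e.symm (PullPerf.isFlat_of_finLocFree (ExtFilt28.isFinLocFree_tensor hM
      (WedgeDual5.isFinLocFree_of_isExtPow hN hL')))
  obtain ⟨e₁⟩ := nonempty_homology_iso i hfr hM hL c hP hflat
  obtain ⟨e₂⟩ := nonempty_pullback_homology_iso g Q hQ hQ0 hH (-(q : ℤ))
  haveI := PhiDiag.preservesHomology_push j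
  let T := ((Scheme.Modules.pullback j).mapHomologicalComplex (ComplexShape.up ℤ)).obj (pullf f P)
  let eT : T ≅ (F.mapHomologicalComplex (ComplexShape.up ℤ)).obj Q :=
    (NatIso.mapHomologicalComplex (pullSquareIso hsq) (ComplexShape.up ℤ)).app P
  exact ⟨(T.sc (-(q : ℤ))).mapHomologyIso (Scheme.Modules.pushforward j) ≪≫
    (Scheme.Modules.pushforward j).mapIso ((HomologicalComplex.homologyFunctor _ _ _).mapIso eT ≪≫ e₂ ≪≫
      F.mapIso e₁)⟩

include hsq hJ hfr hN hM c hP hflat in
/-- The excess sequence. -/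
theorem exists_excess_seq (q : ℕ) {L : Y.Modules} (hL : ExtPow.IsExtPow q (Omega.conormal i) L) :
    ∃ S : ShortComplex X'.Modules, S.ShortExact ∧ S.X₁ = (pullf f P).homology (-(q : ℤ)) ∧
      Nonempty (S.X₂ ≅ (Scheme.Modules.pushforward j).obj ((Scheme.Modules.pullback g).obj (CohB1.tensorMod M L))) ∧
      Nonempty (S.X₃ ≅ (tenR (ClSub.idealMod j.ker)).obj ((pullf f P).homology (1 - (q : ℤ)))) := by
  let K := pullf f P
  have hK : ∀ n, FlatMod.IsFlat (K.X n) := fun n => DCat.isFlat_pullback f (hflat n)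
  have hS := divCx_shortExact j K hK
  have hJf := PullPerf.isFlat_of_finLocFree (isFinLocFree_ideal j hJ)
  haveI := preservesHomology_tenR hJf
  have hz : ∀ n, homologyMap (divCx j K).f n = 0 := fun n =>
    homologyMap_divCx_eq_zero j K hJf n (germ_smul_homology hsq c hP hflat n)
  have hij : (ComplexShape.up ℤ).Rel (-(q : ℤ)) (1 - (q : ℤ)) := by
    simp only [ComplexShape.up_Rel]
    omega
  obtain ⟨e⟩ := nonempty_X₃_homology_iso hsq hfr hN hM c hP hflat q hL
  haveI : Mono (homologyMap (divCx j K).g (-(q : ℤ))) :=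
    (hS.homology_exact₂ (-(q : ℤ))).mono_g (hz _)
  haveI : Epi (hS.δ (-(q : ℤ)) (1 - (q : ℤ)) hij) :=
    (hS.homology_exact₁ _ _ hij).epi_f (hz _)
  refine ⟨ShortComplex.mk (homologyMap (divCx j K).g (-(q : ℤ))) (hS.δ (-(q : ℤ)) (1 - (q : ℤ)) hij)
    (hS.comp_δ _ _ hij), ShortComplex.ShortExact.mk' (hS.homology_exact₃ _ _ hij) inferInstance inferInstance,
    rfl, ⟨e⟩, ⟨?_⟩⟩
  exact (K.sc (1 - (q : ℤ))).mapHomologyIso (tenR (ClSub.idealMod j.ker))

end Groth.Agent.KTor28
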