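import Groth.Agent.KBlow28.PushPull
import Groth.Agent.KZeroLib.DerivedEuler
import Groth.Agent.KZeroLib.RegularPerfect

/-!
# The class of a bounded object with perfect cohomology sheaves
-/

set_option autoImplicit false
set_option linter.style.haveILetI false
set_option backward.isDefEq.respectTransparency false
set_option maxHeartbeats 800000

universe u

open CategoryTheory CategoryTheory.Limits CategoryTheory.Pretriangulated AlgebraicGeometry DerivedCategory
open Groth.Agent Groth.Agent.DCat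

attribute [local instance] HasDerivedCategory.standard
attribute [-instance] Int.instConditionallyCompleteLinearOrder

namespace Groth.Agent.KTor28

variable {X : Scheme.{u}}

theorem homology_isIso_LT (K : DCoh.D X) (n i : ℤ) (hi : i < n) :
    IsIso ((homologyFunctor X.Modules i).map ((TStructure.t.triangleLTGE n).obj K).mor₁) := by
  haveI : Mono ((homologyFunctor X.Modules i).map ((TStructure.t.triangleLTGE n).obj K).mor₁) :=
    DCat.mono_homology_truncLTι K n i
  haveI hGE : ((TStructure.t.triangleLTGE n).obj K).obj₃.IsGE n :=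
    inferInstanceAs (TStructure.t.IsGE ((TStructure.t.truncGE n).obj K) n)
  haveI : Epi ((homologyFunctor X.Modules i).map ((TStructure.t.triangleLTGE n).obj K).mor₁) :=
    (HomologySequence.epi_homologyMap_mor₁_iff _ (TStructure.t.triangleLTGE_distinguished n K) i).2
      ((isZero_of_isGE ((TStructure.t.triangleLTGE n).obj K).obj₃ n i hi).eq_of_tgt _ _)
  exact isIso_of_mono_of_epi _

theorem homology_isIso_GE (K : DCoh.D X) (n i : ℤ) (hi : n ≤ i) :
    IsIso ((homologyFunctor X.Modules i).map ((TStructure.t.triangleLTGE n).obj K).mor₂) := by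
  haveI : Epi ((homologyFunctor X.Modules i).map ((TStructure.t.triangleLTGE n).obj K).mor₂) :=
    DCat.epi_homology_truncGEπ K n i
  haveI hLE : ((TStructure.t.triangleLTGE n).obj K).obj₁.IsLE (n - 1) :=
    TStructure.t.isLE_truncLT_obj _ _ _ (by omega)
  haveI : Mono ((homologyFunctor X.Modules i).map ((TStructure.t.triangleLTGE n).obj K).mor₂) :=
    (HomologySequence.mono_homologyMap_mor₂_iff _ (TStructure.t.triangleLTGE_distinguished n K) i).2
      ((isZero_of_isLE ((TStructure.t.triangleLTGE n).obj K).obj₁ (n - 1) i (by omega)).eq_of_src _ _)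
  exact isIso_of_mono_of_epi _

/-- The class of an object with cohomology in degrees `[-c, 0]`, all perfect. -/
theorem cl_eq_sum_HD : ∀ (c : ℕ) (K : DCoh.D X), K.IsLE 0 → (∀ i : ℤ, i < -(c : ℤ) → IsZero (DCoh.HD K i)) →
    (∀ p : ℕ, p ≤ c → DCoh.IsPerfect (DCoh.inD X (DCoh.HD K (-(p : ℤ))))) →
    DCoh.IsPerfect K ∧ KZero.clTr (SGA6.perfP X) K =
      ∑ p ∈ Finset.range (c + 1), (-1 : ℤ) ^ p • KZero.clTr (SGA6.perfP X) (DCoh.inD X (DCoh.HD K (-(p : ℤ)))) := by
  intro c
  induction c with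
  | zero =>
    intro K hle hz hp
    have hge : K.IsGE 0 := (isGE_iff K 0).2 fun i hi => hz i (by simpa using hi)
    obtain ⟨M, ⟨e⟩⟩ := exists_iso_singleFunctor_obj_of_isGE_of_isLE K 0
    let eH : DCoh.HD K 0 ≅ M := (homologyFunctor X.Modules 0).mapIso e ≪≫
      (singleFunctorCompHomologyFunctorIso X.Modules 0).app M
    let e' : DCoh.inD X (DCoh.HD K 0) ≅ K := (DerivedCategory.singleFunctor X.Modules 0).mapIso eH ≪≫ e.symm
    have h0 := hp 0 le_rfl
    refine ⟨PCTriangle.perfect_iso e' (by simpa using h0), ?_⟩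
    rw [Finset.sum_range_one, pow_zero, one_smul, ← KBlow28.cl_iso' e' (by simpa using h0)]
    simp
  | succ c ih =>
    intro K hle hz hp
    let T := (TStructure.t.triangleLTGE 0).obj K
    have hT : T ∈ distTriang (DCoh.D X) := TStructure.t.triangleLTGE_distinguished 0 K
    have hLE : T.obj₁.IsLE (-1) := TStructure.t.isLE_truncLT_obj _ _ _ (by omega)
    have hGE : T.obj₃.IsGE 0 := inferInstanceAs (TStructure.t.IsGE ((TStructure.t.truncGE 0).obj K) 0)
    have hLE₃ : T.obj₃.IsLE 0 := (isLE_iff T.obj₃ 0).2 fun i hi => by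
      haveI := homology_isIso_GE K 0 i hi.le
      exact IsZero.of_iso (isZero_of_isLE K 0 i hi) (asIso ((homologyFunctor X.Modules i).map T.mor₂)).symm
    obtain ⟨M, ⟨e⟩⟩ := exists_iso_singleFunctor_obj_of_isGE_of_isLE T.obj₃ 0
    haveI := homology_isIso_GE K 0 0 le_rfl
    let eH : DCoh.HD K 0 ≅ M := asIso ((homologyFunctor X.Modules 0).map T.mor₂) ≪≫
      (homologyFunctor X.Modules 0).mapIso e ≪≫ (singleFunctorCompHomologyFunctorIso X.Modules 0).app M
    let e₃ : DCoh.inD X (DCoh.HD K 0) ≅ T.obj₃ := (DerivedCategory.singleFunctor X.Modules 0).mapIso eH ≪≫ e.symm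
    have h3 : DCoh.IsPerfect T.obj₃ := PCTriangle.perfect_iso e₃ (by simpa using hp 0 (Nat.zero_le _))
    let K' := T.obj₁⟦(-1 : ℤ)⟧
    have eK' : ∀ i : ℤ, i ≤ 0 → Nonempty (DCoh.HD K' i ≅ DCoh.HD K (i - 1)) := fun i hi => by
      haveI := homology_isIso_LT K 0 (i - 1) (by omega)
      exact ⟨((homologyFunctor X.Modules 0).shiftIso (-1) i (i - 1) (by omega)).app T.obj₁ ≪≫
        asIso ((homologyFunctor X.Modules (i - 1)).map T.mor₁)⟩
    have hle' : K'.IsLE 0 := (isLE_iff K' 0).2 fun i hi =>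
      IsZero.of_iso (isZero_of_isLE T.obj₁ (-1) (i - 1) (by omega))
        (((homologyFunctor X.Modules 0).shiftIso (-1) i (i - 1) (by omega)).app T.obj₁)
    have hp' : ∀ p : ℕ, p ≤ c → DCoh.IsPerfect (DCoh.inD X (DCoh.HD K' (-(p : ℤ)))) := fun p hpc => by
      obtain ⟨f⟩ := eK' (-(p : ℤ)) (by omega)
      refine PCTriangle.perfect_iso ((DerivedCategory.singleFunctor X.Modules 0).mapIso
        (f ≪≫ eqToIso (by congr 1; push_cast; omega))).symm (hp (p + 1) (by omega))
    obtain ⟨hK', hcl⟩ := ih K' hle' (fun i hi => by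
      obtain ⟨f⟩ := eK' i (by omega)
      exact IsZero.of_iso (hz (i - 1) (by push_cast; omega)) f) hp'
    have h1 : DCoh.IsPerfect T.obj₁ :=
      PCTriangle.perfect_iso ((shiftEquiv (DCoh.D X) (-1 : ℤ)).unitIso.app T.obj₁).symm
        (PCTriangle.perfect_shift hK' _)
    have h2 : DCoh.IsPerfect K := (PCTriangle.perfect_two_out_of_three hT).2.1 h1 h3
    refine ⟨h2, ?_⟩
    have hrel : KZero.clTr (SGA6.perfP X) K =
        KZero.clTr (SGA6.perfP X) T.obj₁ + KZero.clTr (SGA6.perfP X) T.obj₃ :=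
      KPerfPn28.cl_rel (P := SGA6.perfP X) hT h1 h2 h3
    have hT1 : KZero.clTr (SGA6.perfP X) T.obj₁ = - KZero.clTr (SGA6.perfP X) K' := by
      rw [← KBlow28.cl_shift_one hK']
      exact KBlow28.cl_iso' ((shiftEquiv' (DCoh.D X) (-1 : ℤ) 1 (by omega)).unitIso.app T.obj₁) h1
    rw [hrel, hT1, hcl, ← KBlow28.cl_iso' e₃ (by simpa using hp 0 (Nat.zero_le _)),
      Finset.sum_range_succ' _ (c + 1), ← Finset.sum_neg_distrib]
    congr 1
    · refine Finset.sum_congr rfl fun p hpm => ?_
      have hpc : p ≤ c := by simp only [Finset.mem_range] at hpm; omega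
      obtain ⟨f⟩ := eK' (-(p : ℤ)) (by omega)
      rw [pow_succ, mul_neg_one, neg_smul]
      congr 2
      exact KBlow28.cl_iso' ((DerivedCategory.singleFunctor X.Modules 0).mapIso
        (f ≪≫ eqToIso (by congr 1; push_cast; omega))) (hp' p hpc)
    · simp

end Groth.Agent.KTor28
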