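import Groth.Agent.KTor28.Excess
import Groth.Agent.KTor28.KClass
import Groth.Agent.GrassLib.MapOfEpi
import Groth.Agent.KvbLam28.Basic
import Groth.Agent.DCat.TensorAssoc
import Groth.Agent.EulerPn5.Wedge
import Groth.Agent.ExtPowEx28.Pull
import Groth.Agent.KPush28.Basic
import Groth.Agent.KPB28.ExtSes

/-!
# Classes of the cohomology of `Lf^* i_* M` for a divisor `Y' = f⁻¹ Y`
-/

set_option autoImplicit false
set_option linter.unusedSectionVars false
set_option linter.style.haveILetI false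
set_option backward.isDefEq.respectTransparency false
set_option backward.isDefEq.respectTransparency.types false
set_option maxHeartbeats 1000000

universe u

open CategoryTheory CategoryTheory.Limits AlgebraicGeometry
open Groth.Agent Groth.Agent.DCat
open scoped ZeroObject

attribute [local instance] HasDerivedCategory.standard
attribute [-instance] Int.instConditionallyCompleteLinearOrder

namespace Groth.Agent.KTor28

/-- The class of a bundle. -/
local notation "clv" => KZero.clSub (fun M : Scheme.Modules _ => FlatMod.IsFinLocFree M)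

variable {X : Scheme.{u}}

/-- Iterated tensor with a fixed module. -/
noncomputable def tw (J : X.Modules) : ℕ → (X.Modules ⥤ X.Modules)
  | 0 => 𝟭 _
  | m + 1 => tenR J ⋙ tw J m

theorem shortExact_tenR {J : X.Modules} (hJ : FlatMod.IsFlat J) {S : ShortComplex X.Modules} (hS : S.ShortExact) :
    ∃ T : ShortComplex X.Modules, T.ShortExact ∧ T.X₁ = (tenR J).obj S.X₁ ∧ T.X₂ = (tenR J).obj S.X₂ ∧
      T.X₃ = (tenR J).obj S.X₃ := by
  haveI := preservesHomology_tenR hJ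
  obtain ⟨_, _⟩ := ((Functor.exact_tfae (tenR J)).out 2 3).1 (preservesHomology_tenR hJ)
  exact ⟨S.map (tenR J), hS.map_of_exact _, rfl, rfl, rfl⟩

theorem shortExact_tw {J : X.Modules} (hJ : FlatMod.IsFlat J) :
    ∀ (m : ℕ) {S : ShortComplex X.Modules}, S.ShortExact → ∃ T : ShortComplex X.Modules, T.ShortExact ∧
      T.X₁ = (tw J m).obj S.X₁ ∧ T.X₂ = (tw J m).obj S.X₂ ∧ T.X₃ = (tw J m).obj S.X₃
  | 0, S, hS => ⟨S, hS, rfl, rfl, rfl⟩
  | m + 1, S, hS => by
    obtain ⟨T, hT, e₁, e₂, e₃⟩ := shortExact_tenR hJ hS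
    obtain ⟨T', hT', f₁, f₂, f₃⟩ := shortExact_tw hJ m hT
    exact ⟨T', hT', f₁.trans (by rw [e₁]; rfl), f₂.trans (by rw [e₂]; rfl), f₃.trans (by rw [e₃]; rfl)⟩

theorem isFinLocFree_tw {C : X.Modules} (hC : FlatMod.IsFinLocFree C) :
    ∀ (m : ℕ) {E : X.Modules}, FlatMod.IsFinLocFree E → FlatMod.IsFinLocFree ((tw C m).obj E)
  | 0, _, hE => hE
  | m + 1, _, hE => isFinLocFree_tw hC m (ExtFilt28.isFinLocFree_tensor hE hC)

theorem isZero_tw {C : X.Modules} : ∀ (m : ℕ) {E : X.Modules}, IsZero E → IsZero ((tw C m).obj E)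
  | 0, _, hE => hE
  | m + 1, _, hE => isZero_tw m ((tenR C).map_isZero hE)

theorem clv_isZero' {E : X.Modules} (h : IsZero E) : clv E = 0 := by
  have hS : (ShortComplex.mk (0 : E ⟶ E) (0 : E ⟶ E) zero_comp).ShortExact :=
    { exact := ShortComplex.exact_of_isZero_X₂ _ h
      mono_f := h.mono _
      epi_g := h.epi _ }
  have hf := ExtFilt28.isFinLocFree_isZero h
  have := ExtFilt28.clv_ses hS hf hf hf
  exact left_eq_add.1 this

section Push

variable {Z : Scheme.{u}} (j : Z ⟶ X) [IsClosedImmersion j]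

theorem nonempty_tw_push : ∀ (m : ℕ) (E : Z.Modules),
    Nonempty ((tw (ClSub.idealMod j.ker) m).obj ((Scheme.Modules.pushforward j).obj E) ≅
      (Scheme.Modules.pushforward j).obj ((tw (Omega.conormal j) m).obj E))
  | 0, _ => ⟨Iso.refl _⟩
  | m + 1, E => by
    obtain ⟨e⟩ := nonempty_tw_push m ((tenR (Omega.conormal j)).obj E)
    exact ⟨(tw (ClSub.idealMod j.ker) m).mapIso ((PhiDiag.proj j E).app (ClSub.idealMod j.ker)) ≪≫ e⟩

/-- The class in `K₀` of perfect complexes of the direct image. -/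
noncomputable def clP (E : Z.Modules) : SGA6.Kperf X :=
  KZero.clTr (SGA6.perfP X) (DCoh.inD X ((Scheme.Modules.pushforward j).obj E))

variable (hJ : BlowUp.IsEffCartierIdeal j.ker)
include hJ

theorem exists_push_hom : ∃ Φ : SGA6.Kvb Z →+ SGA6.Kperf X, ∀ E, FlatMod.IsFinLocFree E →
    Φ (clv E) = clP j E :=
  KvbLam28.exists_lift (X := Z) (clP j) fun S hS h₁ h₂ h₃ => by
    exact KPerfPn28.cl_rel (P := SGA6.perfP X) (KPush28.shortExact_push j hS).singleTriangle_distinguished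
      (isPerfect_push j hJ h₁) (isPerfect_push j hJ h₂) (isPerfect_push j hJ h₃)

end Push

theorem exists_twist_hom {C A : X.Modules} (hC : FlatMod.IsFinLocFree C) (hA : FlatMod.IsFinLocFree A) (m : ℕ) :
    ∃ T : SGA6.Kvb X →+ SGA6.Kvb X, ∀ E, FlatMod.IsFinLocFree E →
      T (clv E) = clv ((tw C m).obj (CohB1.tensorMod A E)) :=
  KvbLam28.exists_lift (fun E => clv ((tw C m).obj (CohB1.tensorMod A E))) fun S hS h₁ h₂ h₃ => by
    obtain ⟨T, hT, e₁, e₂, e₃⟩ := shortExact_tw (PullPerf.isFlat_of_finLocFree hC) m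
      (shortExact_tensor_flat (PullPerf.isFlat_of_finLocFree hA) hS)
    have hf : ∀ E, FlatMod.IsFinLocFree E → FlatMod.IsFinLocFree ((tw C m).obj (((shT X).obj A).obj E)) :=
      fun E hE => isFinLocFree_tw hC m (ExtFilt28.isFinLocFree_tensor hA hE)
    have := ExtFilt28.clv_ses hT (e₁ ▸ hf _ h₁) (e₂ ▸ hf _ h₂) (e₃ ▸ hf _ h₃)
    rw [e₁, e₂, e₃] at this
    exact this

/-- Exterior powers of an extension by a line bundle. -/
theorem clv_extPow_line {S : ShortComplex X.Modules} (hS : S.ShortExact) (h₁ : FlatMod.IsFinLocFree S.X₁)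
    (h₂ : FlatMod.IsFinLocFree S.X₂) (h₃ : FlatMod.IsFinLocFreeOfRank 1 S.X₃)
    (L' L : ℕ → X.Modules) (hL' : ∀ p, ExtPow.IsExtPow p S.X₁ (L' p)) (hL : ∀ p, ExtPow.IsExtPow p S.X₂ (L p))
    (q : ℕ) : clv (L (q + 1)) =
      clv (L' (q + 1)) + clv (CohB1.tensorMod (L' q) S.X₃) := by
  have h₃' := LocFreeLib.isFinLocFree_of_rank h₃
  choose L'' hL''f hL'' using fun p => ExtPowEx28.exists_isExtPow h₃' p
  have hL'f : ∀ p, FlatMod.IsFinLocFree (L' p) := fun p => WedgeDual5.isFinLocFree_of_isExtPow h₁ (hL' p)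
  haveI : ∀ i, Coh.IsQCoh (L' i) := fun i => CAlgH3.LocFreeFactor.isQCoh_of_finLocFree (hL'f i)
  haveI : ∀ i, Coh.IsQCoh (L i) := fun i =>
    CAlgH3.LocFreeFactor.isQCoh_of_finLocFree (WedgeDual5.isFinLocFree_of_isExtPow h₂ (hL i))
  haveI : ∀ i, Coh.IsQCoh (L'' i) := fun i => CAlgH3.LocFreeFactor.isQCoh_of_finLocFree (hL''f i)
  choose φ' c' using fun p => hL' p
  choose φ c using fun p => hL p
  choose φ'' c'' using fun p => hL'' p
  have hsum := ExtFilt28.clv_extPow hS h₁ h₃' φ' φ φ'' c' c c'' hL'f hL''f (q + 1)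
  obtain ⟨e₀⟩ := KvbLam28.exists_iso_of_isExtPow (⟨φ'' 0, c'' 0⟩ : ExtPow.IsExtPow 0 S.X₃ (L'' 0))
    (KvbLam28.isExtPow_zero S.X₃)
  obtain ⟨e₁⟩ := KvbLam28.exists_iso_of_isExtPow (⟨φ'' 1, c'' 1⟩ : ExtPow.IsExtPow 1 S.X₃ (L'' 1))
    (KvbLam28.isExtPow_one S.X₃)
  rw [hsum, Finset.sum_range_succ, Finset.sum_range_succ, Finset.sum_eq_zero (fun k hk => ?_), zero_add, add_comm]
  · rw [Nat.sub_self, show q + 1 - q = 1 by omega]
    exact congrArg₂ (· + ·) (ExtFilt28.clv_iso (((shT X).obj (L' (q + 1))).mapIso e₀ ≪≫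
      (RHomLeft.rightUnitIso X).app _)) (ExtFilt28.clv_iso (((shT X).obj (L' q)).mapIso e₁))
  · have hk' : k < q := Finset.mem_range.1 hk
    exact clv_isZero' (((shT X).obj (L' k)).map_isZero
      (EulerPn5.isZero_of_isExtPow h₃ ⟨φ'' _, c'' _⟩ (by omega)))

section Main

variable {Y X' Y' : Scheme.{u}} {i : Y ⟶ X} {f : X' ⟶ X} {j : Y' ⟶ X'} {g : Y' ⟶ Y}
  [IsClosedImmersion i] [IsClosedImmersion j]
  (hsq : IsPullback j g f i) (hJ : BlowUp.IsEffCartierIdeal j.ker) (hfr : HasFrames i)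
  (hN : FlatMod.IsFinLocFree (Omega.conormal i)) {M : Y.Modules} (hM : FlatMod.IsFinLocFree M)
  {P : CochainComplex X.Modules ℤ}
  (c : P ⟶ (HomologicalComplex.single X.Modules (ComplexShape.up ℤ) 0).obj ((Scheme.Modules.pushforward i).obj M))
  [QuasiIso c]
  (hP : ∀ n : ℤ, 0 < n → IsZero (P.X n)) (hflat : ∀ n, FlatMod.IsFlat (P.X n))
  {S : ShortComplex Y'.Modules} (hS : S.ShortExact)
  (hS₁ : FlatMod.IsFinLocFree S.X₁) (e₂ : S.X₂ = (Scheme.Modules.pullback g).obj (Omega.conormal i))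
  (e₃ : S.X₃ = Omega.conormal j) (Λ : ℕ → Y'.Modules) (hΛ : ∀ p, ExtPow.IsExtPow p S.X₁ (Λ p))

include hJ in
theorem isFinLocFree_conormal_div : FlatMod.IsFinLocFree (Omega.conormal j) :=
  PullPerf.isFinLocFree_pullback j (isFinLocFree_ideal j hJ)

include hsq hJ hfr hN hM c hP hflat hS hS₁ e₂ e₃ hΛ in
/-- The classes of the twisted cohomology sheaves. -/
theorem cl_homology : ∀ (q m : ℕ),
    DCoh.IsPerfect (DCoh.inD X' ((tw (ClSub.idealMod j.ker) m).obj ((pullf f P).homology (-(q : ℤ))))) ∧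
      KZero.clTr (SGA6.perfP X') (DCoh.inD X' ((tw (ClSub.idealMod j.ker) m).obj ((pullf f P).homology (-(q : ℤ))))) =
        clP j ((tw (Omega.conormal j) m).obj (CohB1.tensorMod ((Scheme.Modules.pullback g).obj M) (Λ q))) := by
  have hC := isFinLocFree_conormal_div (j := j) hJ
  have hA : FlatMod.IsFinLocFree ((Scheme.Modules.pullback g).obj M) := PullPerf.isFinLocFree_pullback g hM
  have hgN : FlatMod.IsFinLocFree ((Scheme.Modules.pullback g).obj (Omega.conormal i)) :=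
    PullPerf.isFinLocFree_pullback g hN
  have hΛf : ∀ p, FlatMod.IsFinLocFree (Λ p) := fun p => WedgeDual5.isFinLocFree_of_isExtPow hS₁ (hΛ p)
  have hJf := PullPerf.isFlat_of_finLocFree (isFinLocFree_ideal j hJ)
  choose L hLf hL using fun p => ExtPowEx28.exists_isExtPow hN p
  have h3 : FlatMod.IsFinLocFreeOfRank 1 S.X₃ := e₃ ▸ GrassLib.isFinLocFreeOfRank_pullback j
    (PicLib.isFinLocFreeOfRank_one (FlatMor12.IdealModGen.isInvertible_idealMod _ hJ))
  have hgL : ∀ p, ExtPow.IsExtPow p S.X₂ ((Scheme.Modules.pullback g).obj (L p)) := fun p =>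
    e₂ ▸ ExtPowEx28.isExtPow_pullback_vb g hN (hL p)
  obtain ⟨Φ, hΦ⟩ := exists_push_hom j hJ
  -- the middle term
  have hmid : ∀ (q m : ℕ) (T : ShortComplex X'.Modules),
      Nonempty (T.X₂ ≅ (Scheme.Modules.pushforward j).obj ((Scheme.Modules.pullback g).obj (CohB1.tensorMod M (L q)))) →
      ∀ T' : ShortComplex X'.Modules, T'.X₂ = (tw (ClSub.idealMod j.ker) m).obj T.X₂ →
      DCoh.IsPerfect (DCoh.inD X' T'.X₂) ∧ KZero.clTr (SGA6.perfP X') (DCoh.inD X' T'.X₂) =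
        clP j ((tw (Omega.conormal j) m).obj (CohB1.tensorMod ((Scheme.Modules.pullback g).obj M)
          ((Scheme.Modules.pullback g).obj (L q)))) := by
    rintro q m T ⟨e⟩ T' hT'
    obtain ⟨e'⟩ := nonempty_tw_push j m ((Scheme.Modules.pullback g).obj (CohB1.tensorMod M (L q)))
    let w : DCoh.inD X' T'.X₂ ≅ DCoh.inD X' ((Scheme.Modules.pushforward j).obj
        ((tw (Omega.conormal j) m).obj (CohB1.tensorMod ((Scheme.Modules.pullback g).obj M)
          ((Scheme.Modules.pullback g).obj (L q))))) :=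
      (DerivedCategory.singleFunctor X'.Modules 0).mapIso (eqToIso hT' ≪≫ (tw (ClSub.idealMod j.ker) m).mapIso e ≪≫
        e' ≪≫ (Scheme.Modules.pushforward j).mapIso ((tw (Omega.conormal j) m).mapIso
          (PullTensor.pullTensorIso g M (L q))))
    have hp := PCTriangle.perfect_iso w.symm (isPerfect_push j hJ (isFinLocFree_tw hC m
      (ExtFilt28.isFinLocFree_tensor hA (PullPerf.isFinLocFree_pullback g (hLf q)))))
    exact ⟨hp, KBlow28.cl_iso' w hp⟩
  intro q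
  induction q with
  | zero =>
    intro m
    obtain ⟨T, hT, h₁, h₂, ⟨u₃⟩⟩ := exists_excess_seq hsq hJ hfr hN hM c hP hflat 0 (hL 0)
    have h0 : IsZero ((pullf f P).homology (1 - ((0 : ℕ) : ℤ))) := (HomologicalComplex.exactAt_iff_isZero_homology _ _).1
      (ShortComplex.exact_of_isZero_X₂ _ ((Scheme.Modules.pullback f).map_isZero (hP _ (by simp))))
    have hz : IsZero T.X₃ := IsZero.of_iso ((tenR (ClSub.idealMod j.ker)).map_isZero h0) u₃
    haveI : IsIso T.f := hT.isIso_f_iff.2 hz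
    obtain ⟨hp, hcl⟩ := hmid 0 m T h₂
      (ShortComplex.mk (0 : (0 : X'.Modules) ⟶ (tw (ClSub.idealMod j.ker) m).obj T.X₂)
        (0 : _ ⟶ (0 : X'.Modules)) zero_comp) rfl
    let w : DCoh.inD X' ((tw (ClSub.idealMod j.ker) m).obj ((pullf f P).homology (-((0 : ℕ) : ℤ)))) ≅
        DCoh.inD X' ((tw (ClSub.idealMod j.ker) m).obj T.X₂) :=
      (DerivedCategory.singleFunctor X'.Modules 0).mapIso ((tw (ClSub.idealMod j.ker) m).mapIso
        (eqToIso h₁.symm ≪≫ asIso T.f))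
    have hp' := PCTriangle.perfect_iso w.symm hp
    refine ⟨hp', (KBlow28.cl_iso' w hp').trans (hcl.trans ?_)⟩
    obtain ⟨a⟩ := KvbLam28.exists_iso_of_isExtPow (hgL 0) (KvbLam28.isExtPow_zero S.X₂)
    obtain ⟨b⟩ := KvbLam28.exists_iso_of_isExtPow (hΛ 0) (KvbLam28.isExtPow_zero S.X₁)
    exact KBlow28.cl_iso' ((DerivedCategory.singleFunctor X'.Modules 0).mapIso ((Scheme.Modules.pushforward j).mapIso
      ((tw (Omega.conormal j) m).mapIso (((shT Y').obj _).mapIso (a ≪≫ b.symm)))))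
      (isPerfect_push j hJ (isFinLocFree_tw hC m (ExtFilt28.isFinLocFree_tensor hA
        (PullPerf.isFinLocFree_pullback g (hLf 0)))))
  | succ q ih =>
    intro m
    obtain ⟨T, hT, h₁, h₂, ⟨u₃⟩⟩ := exists_excess_seq hsq hJ hfr hN hM c hP hflat (q + 1) (hL (q + 1))
    obtain ⟨T', hT', f₁, f₂, f₃⟩ := shortExact_tw hJf m hT
    obtain ⟨hp₂, hcl₂⟩ := hmid (q + 1) m T h₂ T' f₂
    obtain ⟨hpq, hclq⟩ := ih (m + 1)
    let w₃ : DCoh.inD X' T'.X₃ ≅ DCoh.inD X' ((tw (ClSub.idealMod j.ker) (m + 1)).obj ((pullf f P).homology (-(q : ℤ)))) :=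
      (DerivedCategory.singleFunctor X'.Modules 0).mapIso (eqToIso f₃ ≪≫ (tw (ClSub.idealMod j.ker) m).mapIso
        (u₃ ≪≫ eqToIso (by rw [show (1 : ℤ) - ((q + 1 : ℕ) : ℤ) = -(q : ℤ) by omega])))
    have hp₃ := PCTriangle.perfect_iso w₃.symm hpq
    have hcl₃ := (KBlow28.cl_iso' w₃ hp₃).trans hclq
    have hp₁ := (PCTriangle.perfect_two_out_of_three hT'.singleTriangle_distinguished).2.2 hp₂ hp₃
    have hrel := KPerfPn28.cl_rel (P := SGA6.perfP X') hT'.singleTriangle_distinguished hp₁ hp₂ hp₃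
    change KZero.clTr (SGA6.perfP X') (DCoh.inD X' T'.X₂) = KZero.clTr (SGA6.perfP X') (DCoh.inD X' T'.X₁) +
      KZero.clTr (SGA6.perfP X') (DCoh.inD X' T'.X₃) at hrel
    rw [hcl₂, hcl₃, f₁, h₁] at hrel
    change DCoh.IsPerfect (DCoh.inD X' T'.X₁) at hp₁
    rw [f₁, h₁] at hp₁
    refine ⟨hp₁, ?_⟩
    obtain ⟨Tm, hTm⟩ := exists_twist_hom hC hA m
    have key := congrArg Φ (congrArg Tm (clv_extPow_line hS hS₁ (e₂ ▸ hgN) h3 Λ _ hΛ hgL q))
    have hΛC := ExtFilt28.isFinLocFree_tensor (hΛf q) (e₃ ▸ hC : FlatMod.IsFinLocFree S.X₃)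
    rw [map_add, map_add, hTm _ (PullPerf.isFinLocFree_pullback g (hLf _)), hTm _ (hΛf _), hTm _ hΛC,
      hΦ _ (isFinLocFree_tw hC m (ExtFilt28.isFinLocFree_tensor hA (PullPerf.isFinLocFree_pullback g (hLf _)))),
      hΦ _ (isFinLocFree_tw hC m (ExtFilt28.isFinLocFree_tensor hA (hΛf _))),
      hΦ _ (isFinLocFree_tw hC m (ExtFilt28.isFinLocFree_tensor hA hΛC))] at key
    have hassoc : clP j ((tw (Omega.conormal j) (m + 1)).obj (CohB1.tensorMod ((Scheme.Modules.pullback g).obj M) (Λ q))) =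
        clP j ((tw (Omega.conormal j) m).obj (CohB1.tensorMod ((Scheme.Modules.pullback g).obj M)
          (CohB1.tensorMod (Λ q) S.X₃))) := by
      rw [e₃]
      exact KBlow28.cl_iso' ((DerivedCategory.singleFunctor X'.Modules 0).mapIso
        ((Scheme.Modules.pushforward j).mapIso ((tw (Omega.conormal j) m).mapIso
          (TensorAssoc.assocIso ((Scheme.Modules.pullback g).obj M) (Λ q) (Omega.conormal j)))))
        (isPerfect_push j hJ (isFinLocFree_tw hC (m + 1) (ExtFilt28.isFinLocFree_tensor hA (hΛf q))))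
    rw [hassoc] at hrel
    rw [key] at hrel
    exact (add_right_cancel hrel).symm

end Main

end Groth.Agent.KTor28
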