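import Groth.Agent.KTor28.ExcessClass
import Groth.Agent.BlowUpCoh.Regular
import Groth.Prelude.Def_BlowUp2

/-!
# The data of the excess formula for a blow-up
-/

set_option autoImplicit false
set_option linter.unusedSectionVars false
set_option linter.style.haveILetI false
set_option backward.isDefEq.respectTransparency false
set_option backward.isDefEq.respectTransparency.types false
set_option maxHeartbeats 1000000

universe u

open CategoryTheory CategoryTheory.Limits AlgebraicGeometry
open Groth.Agent Groth.Agent.DCat Groth.Agent.Thick15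
open Groth.Agent.FundLocal (idl)
open scoped TensorProduct

attribute [local instance] HasDerivedCategory.standard
attribute [-instance] Int.instConditionallyCompleteLinearOrder

namespace Groth.Agent.KTor28

variable {X Y X' Y' : Scheme.{u}} {i : Y ⟶ X} {f : X' ⟶ X} {j : Y' ⟶ X'} {g : Y' ⟶ Y}
  [IsClosedImmersion i] [IsClosedImmersion j]

theorem hasFrames_of_koszul (hi : RegImm.IsRegularImmersion .koszul i) : HasFrames i := by
  intro y V hyV
  obtain ⟨U, hyU, -, rs, hrs, hker⟩ := hi.2 y
  obtain ⟨f, hfV, hxf⟩ := U.2.exists_basicOpen_le ⟨_, hyV⟩ hyU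
  have hle : X.basicOpen f ≤ U.1 := X.basicOpen_le f
  have hg : ∀ j, rs.get j ∈ idl i U.1 := fun j => hker.ge (Ideal.subset_span (List.get_mem rs j))
  refine ⟨X.basicOpen f, U.2.basicOpen f, hxf, hfV, rs.length,
    fun j => ⟨X.presheaf.map (homOfLE hle).op (rs.get j), FundLocal.res_mem_idl i hle (hg j)⟩, ?_, ?_⟩
  · refine span_res i U.2 (U.2.basicOpen f) hle (fun j => ⟨rs.get j, hg j⟩) ?_
    refine Eq.trans ?_ hker.symm
    exact CAlgH.KoszulRegular.span_range_get rs
  · have hK : CAlgH.KoszulRegular.KReg (fun j => rs.get j) := by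
      refine (CAlgH.KoszulRegular.isKoszulRegularSeq_iff _).1 ?_
      rw [List.ofFn_get]
      exact hrs
    haveI := U.2.isLocalization_basicOpen f
    exact FlatMorKoszul.kreg_map
      (RingHom.flat_algebraMap_iff.2 (IsLocalization.flat Γ(X, X.basicOpen f) (Submonoid.powers f))) hK

theorem isEffCartier_exceptional (hsq : IsPullback j g f i) (hf : BlowUp.IsBlowUp f i.ker) :
    BlowUp.IsEffCartierIdeal j.ker := by
  have h : j.ker = i.ker.comap f := by
    rw [← Scheme.IdealSheafData.ker_fst_of_isClosedImmersion i f, ← hsq.isoPullback_hom_fst,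
      Scheme.Hom.ker_comp_of_isIso]
  rw [h]
  exact hf.1

theorem surjective_conormalMap (hsq : IsPullback j g f i)
    (φ : (Scheme.Modules.pullback g).obj (Omega.conormal i) ⟶ Omega.conormal j)
    (hφ : OmegaSh.IsConormalMap j i f g φ) (z : Y') :
    Function.Surjective ((DerSch.stalkFunctor Y' z).map φ) := by
  have hwy : i (g z) = f (j z) := (Scheme.Hom.comp_apply g i z).symm.trans
    ((congrArg (fun h : Y' ⟶ X => h z) hsq.w.symm).trans (Scheme.Hom.comp_apply j f z))
  letI := (g.stalkMap z).hom.toAlgebra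
  obtain ⟨π, hπ⟩ := Omega15.exists_pi j z rfl
  obtain ⟨π', hπ'⟩ := Omega15.exists_pi i (g z) hwy
  obtain ⟨E, hE⟩ := OmegaLib.exists_pullback_stalk_equiv g (Omega.conormal i) z
  let P : (DerSch.stalkFunctor Y (g z)).obj (Omega.conormal i) →+
      (DerSch.stalkFunctor Y' z).obj ((Scheme.Modules.pullback g).obj (Omega.conormal i)) :=
    AddMonoidHom.mk' (fun m => E (1 ⊗ₜ m)) fun m m' =>
      (congrArg E (TensorProduct.tmul_add _ _ _)).trans (map_add E _ _)
  have hgen := fun x => Omega15.pi_conormalMap hφ z (y := j z) rfl (y' := f (j z)) rfl hwy hπ hπ' (P := P) hE x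
  intro t
  obtain ⟨x, rfl⟩ := hπ.1 t
  have hK := Omega15.ker_tm_of_isPullback hsq z (y := j z) rfl (y' := f (j z)) rfl hwy
  suffices h : ∀ a ∈ (RingHom.ker (tm i hwy).hom).map (tm f (rfl : f (j z) = f (j z))).hom,
      ∀ ha : a ∈ RingHom.ker (tm j (rfl : j z = j z)).hom,
      π ⟨a, ha⟩ ∈ Set.range ((DerSch.stalkFunctor Y' z).map φ) from h x.1 (hK.le x.2) x.2
  intro a ha
  induction ha using Submodule.span_induction with
  | mem a ha =>
    obtain ⟨b, hb, rfl⟩ := ha
    exact fun _ => ⟨_, hgen ⟨b, hb⟩⟩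
  | zero => exact fun _ => ⟨0, (map_zero _).trans (map_zero π).symm⟩
  | add a b ha hb iha ihb =>
    intro _
    have ha' : a ∈ RingHom.ker (tm j (rfl : j z = j z)).hom := hK.ge ha
    have hb' : b ∈ RingHom.ker (tm j (rfl : j z = j z)).hom := hK.ge hb
    obtain ⟨s, hs⟩ := iha ha'
    obtain ⟨s', hs'⟩ := ihb hb'
    exact ⟨s + s', by rw [map_add, hs, hs', ← map_add]; rfl⟩
  | smul r a ha iha =>
    intro _
    have ha' : a ∈ RingHom.ker (tm j (rfl : j z = j z)).hom := hK.ge ha
    obtain ⟨s, hs⟩ := iha ha'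
    exact ⟨(tm j (rfl : j z = j z)) r • s, by rw [map_smul, hs, ← hπ.2.2.1]; rfl⟩

theorem epi_conormalMap (hsq : IsPullback j g f i)
    (φ : (Scheme.Modules.pullback g).obj (Omega.conormal i) ⟶ Omega.conormal j)
    (hφ : OmegaSh.IsConormalMap j i f g φ) : Epi φ :=
  OmegaLib.epi_of_stalks_surjective φ (surjective_conormalMap hsq φ hφ)

end Groth.Agent.KTor28
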