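import Groth.Agent.KTor28.Sheaf
import Groth.Agent.FlatMorKoszul.Basic
import Mathlib.LinearAlgebra.TensorProduct.Basic

/-!
# The product morphism identifies `M ⊗ ⋀^q C` with the cycles in `coker(i^* A_{q+1} → i^* A_q)`
-/

set_option autoImplicit false
set_option linter.unusedSectionVars false
set_option linter.style.haveILetI false
set_option backward.isDefEq.respectTransparency false
set_option backward.isDefEq.respectTransparency.types false
set_option maxHeartbeats 2000000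

universe u

open CategoryTheory CategoryTheory.Limits AlgebraicGeometry Opposite TopologicalSpace
open Groth.Agent Groth.Agent.ModStalk Groth.Agent.Coherent Groth.Agent.PicLib Groth.Agent.AmpleLib
open Groth.Agent.FundLocal (idl cls lGen idlSec)
open Groth.Agent.Disc12.Koszul (K e0 top)

namespace Groth.Agent.KTor28

variable {X Y : Scheme.{u}} (i : Y ⟶ X) [IsClosedImmersion i]

/-- Affine opens with a Koszul regular frame of the ideal form neighbourhood bases at the points of `Y`. -/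
def HasFrames : Prop :=
  ∀ (y : Y) (U : X.Opens), i.base y ∈ U → ∃ (W : X.Opens) (_ : IsAffineOpen W), i.base y ∈ W ∧ W ≤ U ∧
    ∃ (n : ℕ) (g : Fin n → idl i W),
      Ideal.span (Set.range fun j => (g j).1) = idl i W ∧ CAlgH.KoszulRegular.KReg fun j => (g j).1

theorem span_res {W V : X.Opens} (hW : IsAffineOpen W) (hV : IsAffineOpen V) (h : V ≤ W) {n : ℕ}
    (g : Fin n → idl i W) (hspan : Ideal.span (Set.range fun j => (g j).1) = idl i W) :
    Ideal.span (Set.range fun j => X.presheaf.map (homOfLE h).op (g j).1) = idl i V := by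
  have hmap := i.ker.map_ideal (U := ⟨V, hV⟩) (V := ⟨W, hW⟩) h
  rw [Scheme.Hom.ker_apply, Scheme.Hom.ker_apply] at hmap
  refine Eq.trans ?_ hmap
  refine Eq.trans ?_ (congrArg (Ideal.map (X.presheaf.map (homOfLE h).op).hom) hspan)
  rw [Ideal.map_span, ← Set.range_comp]
  rfl

theorem exists_affine_le (y : Y) {W : X.Opens} (hy : i.base y ∈ W) :
    ∃ V : X.Opens, IsAffineOpen V ∧ i.base y ∈ V ∧ V ≤ W := by
  obtain ⟨V, hV, hyV, hVW⟩ := Opens.isBasis_iff_nbhd.mp X.isBasis_affineOpens hy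
  exact ⟨V, hV, hyV, hVW⟩

theorem span_germ {W : X.Opens} (hW : IsAffineOpen W) (y : Y) (hy : i.base y ∈ W) {n : ℕ}
    (g : Fin n → idl i W) (hspan : Ideal.span (Set.range fun j => (g j).1) = idl i W) :
    Ideal.span (Set.range fun j => X.presheaf.germ W (i.base y) hy (g j).1) = IX i y := by
  refine le_antisymm ?_ fun r hr => ?_
  · rw [Ideal.span_le]
    rintro _ ⟨j, rfl⟩
    exact germ_mem_IX i hy (g j).2
  obtain ⟨U, hU, r', rfl⟩ := X.presheaf.exists_germ_eq r
  have h0 : Y.presheaf.germ (i ⁻¹ᵁ U) y hU (i.app U r') = 0 := by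
    rw [← Scheme.Hom.germ_stalkMap_apply]
    exact hr
  obtain ⟨T, hyT, j₁, j₂, hT⟩ := TopCat.Presheaf.germ_eq Y.presheaf y hU hU _ _
    (h0.trans (map_zero (Y.presheaf.germ (i ⁻¹ᵁ U) y hU).hom).symm)
  obtain ⟨T', rfl⟩ := DCat.ClosedPush.exists_preimage i T
  obtain ⟨V, hV, hyV, hVle⟩ := exists_affine_le i y (show i.base y ∈ W ⊓ (U ⊓ T') from ⟨hy, hU, hyT⟩)
  have hVW : V ≤ W := hVle.trans inf_le_left
  have hVU : V ≤ U := hVle.trans (inf_le_right.trans inf_le_left)
  let r'' := X.presheaf.map (homOfLE hVU).op r'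
  have hr'' : r'' ∈ idl i V := by
    show i.app V r'' = 0
    have h1 := ConcreteCategory.congr_hom (i.naturality (homOfLE hVU).op) r'
    have h2 := congrArg (Y.presheaf.map
      (homOfLE (show i ⁻¹ᵁ V ≤ i ⁻¹ᵁ T' from fun z hz => (hVle hz).2.2)).op) hT
    rw [map_zero, map_zero, ← CommRingCat.comp_apply, ← Functor.map_comp] at h2
    exact h1.trans h2
  rw [← span_res i hW hV hVW g hspan] at hr''
  have h3 := Ideal.mem_map_of_mem (X.presheaf.germ V (i.base y) hyV).hom hr''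
  rw [Ideal.map_span, ← Set.range_comp] at h3
  have e : ((X.presheaf.germ V (i.base y) hyV).hom ∘ fun j => X.presheaf.map (homOfLE hVW).op (g j).1) =
      fun j => X.presheaf.germ W (i.base y) hy (g j).1 :=
    funext fun j => X.presheaf.germ_res_apply (homOfLE hVW) _ hyV (g j).1
  rw [e, show (X.presheaf.germ V (i.base y) hyV).hom r'' = X.presheaf.germ U (i.base y) hU r' from
    X.presheaf.germ_res_apply (homOfLE hVU) _ hyV r'] at h3
  exact h3

theorem kreg_germ {W : X.Opens} (hW : IsAffineOpen W) (y : Y) (hy : i.base y ∈ W) {n : ℕ} {f : Fin n → Γ(X, W)}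
    (hK : CAlgH.KoszulRegular.KReg f) :
    CAlgH.KoszulRegular.KReg fun j => X.presheaf.germ W (i.base y) hy (f j) := by
  letI := TopCat.Presheaf.algebra_section_stalk X.presheaf ⟨i.base y, hy⟩
  haveI := hW.isLocalization_stalk ⟨i.base y, hy⟩
  exact FlatMorKoszul.kreg_map (RingHom.flat_algebraMap_iff.2
    (IsLocalization.flat (X.presheaf.stalk (i.base y)) (hW.primeIdealOf ⟨i.base y, hy⟩).asIdeal.primeCompl)) hK

variable {A : ℕ → X.Modules} (dA : ∀ n, A (n + 1) ⟶ A n) {M : Y.Modules}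
  (α : A 0 ⟶ (Scheme.Modules.pushforward i).obj M)
  (hres : ∀ y, Ring.IsRes (P := fun n => ↥(st (i.base y) (A n))) (dst dA (i.base y)) (ast α (i.base y)))
  {q : ℕ} {L : Y.Modules}
  (φ : ∀ U : Y.affineOpens, (L.val.obj (op U.1)) ≃ₗ[Γ(Y, U.1)]
    ↥(⋀[Γ(Y, U.1)]^q ((Omega.conormal i).val.obj (op U.1))))
  [Coh.IsQCoh M] [Coh.IsQCoh L]

theorem span_cls {V : X.Opens} (hV : IsAffineOpen V) {n : ℕ} (g : Fin n → idl i V)
    (hspan : Ideal.span (Set.range fun j => (g j).1) = idl i V) :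
    Submodule.span Γ(Y, i ⁻¹ᵁ V)
      (Set.range fun j => (show Γ(Omega.conormal i, i ⁻¹ᵁ V) from cls i hV (g j))) = ⊤ := by
  refine eq_top_iff.2 fun c _ => ?_
  obtain ⟨a, rfl⟩ := cls_surjective i hV c
  obtain ⟨v, hv⟩ := (Submodule.mem_span_range_iff_exists_fun _).1 (hspan.ge a.2)
  refine (Submodule.mem_span_range_iff_exists_fun _).2 ⟨fun j => i.app V (v j), ?_⟩
  exact (FundLocal.cls_sum i hV v g a hv.symm).symm

/-- The generator of `M ⊗ L` attached to a basis element and a sequence of indices. -/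
noncomputable def gen {V : X.Opens} (hV : IsAffineOpen V) {n r : ℕ} (g : Fin n → idl i V)
    (m : Fin r → Γ(M, i ⁻¹ᵁ V)) (p : Fin r × Set.powersetCard (Fin n) q) :
    Γ(CohB1.tensorMod M L, i ⁻¹ᵁ V) :=
  tmul (m p.1) (lGen i φ hV fun j => g (Set.powersetCard.ofFinEmbEquiv.symm p.2 j))

theorem span_gen {V : X.Opens} (hV : IsAffineOpen V) {n r : ℕ} (g : Fin n → idl i V)
    (hspan : Ideal.span (Set.range fun j => (g j).1) = idl i V) (m : Fin r → Γ(M, i ⁻¹ᵁ V))
    (hm : Submodule.span Γ(Y, i ⁻¹ᵁ V) (Set.range m) = ⊤) :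
    Submodule.span Γ(Y, i ⁻¹ᵁ V) (Set.range (gen i φ hV g m)) = ⊤ := by
  let e := φ ⟨i ⁻¹ᵁ V, hV.preimage i⟩
  have h1 := exteriorPower.ιMulti_family_span_of_span Γ(Y, i ⁻¹ᵁ V) (n := q) (span_cls i hV g hspan)
  let lg : Set.powersetCard (Fin n) q → Γ(L, i ⁻¹ᵁ V) := fun S =>
    lGen i φ hV fun j => g (Set.powersetCard.ofFinEmbEquiv.symm S j)
  have h2 : Submodule.span Γ(Y, i ⁻¹ᵁ V) (Set.range lg) = ⊤ := by
    have h := congrArg (Submodule.map e.symm.toLinearMap) h1
    rw [Submodule.map_top, LinearEquiv.range, Submodule.map_span, ← Set.range_comp] at h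
    exact h
  have h3 := TensorProduct.map₂_mk_top_top_eq_top Γ(Y, i ⁻¹ᵁ V) Γ(M, i ⁻¹ᵁ V) Γ(L, i ⁻¹ᵁ V)
  rw [← hm, ← h2, Submodule.map₂_span_span] at h3
  have h4 := congrArg (Submodule.map (tmulMap M L (i ⁻¹ᵁ V))) h3
  rw [Submodule.map_span, Submodule.map_top, LinearMap.range_eq_top.2 (bijective_tmulMap (hV.preimage i) M L).2] at h4
  refine eq_top_iff.2 (h4.ge.trans (Submodule.span_mono ?_))
  rintro _ ⟨_, ⟨_, ⟨k, rfl⟩, _, ⟨S, rfl⟩, rfl⟩, rfl⟩
  exact ⟨(k, S), rfl⟩

theorem exists_free (hM : FlatMod.IsFinLocFree M) (y : Y) :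
    ∃ (U : X.Opens), i.base y ∈ U ∧ ∃ (r : ℕ) (m : ∀ V : X.Opens, V ≤ U → Fin r → Γ(M, i ⁻¹ᵁ V)),
      (∀ (V : X.Opens) (hV : V ≤ U), Function.Bijective fun c : Fin r → Γ(Y, i ⁻¹ᵁ V) => ∑ k, c k • m V hV k) ∧
      ∀ (V V' : X.Opens) (hV : V ≤ U) (h : V' ≤ V) (k : Fin r),
        resM M ((Opens.map i.base).map (homOfLE h)).le (m V hV k) = m V' (h.trans hV) k := by
  obtain ⟨Z, r, e, hyZ, hb⟩ := exists_isBasisOn hM y
  obtain ⟨U, rfl⟩ := DCat.ClosedPush.exists_preimage i Z
  refine ⟨U, hyZ, r, fun V hV k => resM M ((Opens.map i.base).map (homOfLE hV)).le (e ⟨k⟩), fun V hV => ?_,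
    fun V V' hV h k => resM_resM _ _ _ _⟩
  have h := hb ((Opens.map i.base).map (homOfLE hV)).le
  have hre : Function.Bijective fun c : Fin r → Γ(Y, i ⁻¹ᵁ V) => fun j : ULift.{u} (Fin r) => c j.down :=
    ⟨fun a b hab => funext fun k => congrFun hab ⟨k⟩, fun c => ⟨fun k => c ⟨k⟩, rfl⟩⟩
  refine (?_ : Function.Bijective _)
  convert h.comp hre using 1
  funext c
  exact (Fintype.sum_equiv Equiv.ulift _ _ fun j => rfl).symm

omit [Coh.IsQCoh M] [Coh.IsQCoh L] in
theorem frame_basis {W : X.Opens} {U : X.Opens} (hWU : W ≤ U) (y : Y) (hy : i.base y ∈ W) {r : ℕ}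
    (m : ∀ V : X.Opens, V ≤ U → Fin r → Γ(M, i ⁻¹ᵁ V))
    (hm : ∀ (V : X.Opens) (hV : V ≤ U), Function.Bijective fun c : Fin r → Γ(Y, i ⁻¹ᵁ V) => ∑ k, c k • m V hV k)
    (hmres : ∀ (V V' : X.Opens) (hV : V ≤ U) (h : V' ≤ V) (k : Fin r),
      resM M ((Opens.map i.base).map (homOfLE h)).le (m V hV k) = m V' (h.trans hV) k)
    (mg : Fin r → st (i.base y) ((Scheme.Modules.pushforward i).obj M))
    (hmg : ∀ k, mg k = gm ((Scheme.Modules.pushforward i).obj M) (U := W) hy (m W hWU k)) :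
    (∀ t, ∃ c : Fin r → X.presheaf.stalk (i.base y), ∑ k, c k • mg k = t) ∧
      ∀ c : Fin r → X.presheaf.stalk (i.base y), ∑ k, c k • mg k = 0 → ∀ k, c k ∈ IX i y := by
  have hsum : ∀ (V : X.Opens) (hyV : i.base y ∈ V) (hVW : V ≤ W) (c : Fin r → Γ(X, V)),
      gm ((Scheme.Modules.pushforward i).obj M) (U := V) hyV (∑ k, i.app V (c k) • m V (hVW.trans hWU) k) =
        ∑ k, X.presheaf.germ V (i.base y) hyV (c k) • mg k := by
    intro V hyV hVW c
    refine (gm_sum ((Scheme.Modules.pushforward i).obj M) (U := V) hyV Finset.univ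
      fun k => (show Γ((Scheme.Modules.pushforward i).obj M, V) from i.app V (c k) • m V (hVW.trans hWU) k)).trans
      (Finset.sum_congr rfl fun k _ => ?_)
    refine (gm_smul ((Scheme.Modules.pushforward i).obj M) (U := V) hyV (c k) _).trans (congrArg _ ?_)
    rw [hmg]
    exact (congrArg (gm ((Scheme.Modules.pushforward i).obj M) (U := V) hyV) (hmres W V hWU hVW k).symm).trans
      (gm_res ((Scheme.Modules.pushforward i).obj M) hVW hyV _)
  refine ⟨fun t => ?_, fun c hc => ?_⟩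
  · obtain ⟨Z, hyZ, s, rfl⟩ := exists_gm ((Scheme.Modules.pushforward i).obj M) t
    obtain ⟨V, hV, hyV, hVle⟩ := exists_affine_le i y (show i.base y ∈ W ⊓ Z from ⟨hy, hyZ⟩)
    obtain ⟨c, hc⟩ := (hm V ((hVle.trans inf_le_left).trans hWU)).2
      (resM ((Scheme.Modules.pushforward i).obj M) (hVle.trans inf_le_right) s)
    choose c' hc' using fun k => app_surjective i hV (c k)
    refine ⟨fun k => X.presheaf.germ V (i.base y) hyV (c' k), ?_⟩
    rw [← hsum V hyV (hVle.trans inf_le_left) c', ← gm_res _ (hVle.trans inf_le_right) hyV s]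
    refine congrArg _ (Eq.trans ?_ hc)
    simp only [hc']
  · choose Z hyZ c' hc' using fun k => X.presheaf.exists_germ_eq (c k)
    obtain ⟨V₀, hV₀, hyV₀, hZ⟩ := exists_nbhd_all (i.base y) W hy (fun k V => V ≤ Z k)
      (fun _ _ _ h1 h2 => h1.trans h2) (fun k => ⟨W ⊓ Z k, inf_le_left, ⟨hy, hyZ k⟩, inf_le_right⟩)
    let c'' : Fin r → Γ(X, V₀) := fun k => X.presheaf.map (homOfLE (hZ k)).op (c' k)
    have hc'' : ∀ k, X.presheaf.germ V₀ (i.base y) hyV₀ (c'' k) = c k := fun k =>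
      (X.presheaf.germ_res_apply (homOfLE (hZ k)) _ hyV₀ (c' k)).trans (hc' k)
    have h0 : gm ((Scheme.Modules.pushforward i).obj M) (U := V₀) hyV₀
        (∑ k, i.app V₀ (c'' k) • m V₀ (hV₀.trans hWU) k) =
        gm ((Scheme.Modules.pushforward i).obj M) (U := V₀) hyV₀ 0 := by
      rw [hsum V₀ hyV₀ hV₀ c'', gm_zero]
      simpa only [hc''] using hc
    obtain ⟨V, hV, hyV, he⟩ := gm_eq _ hyV₀ h0
    intro k
    have he' : ∑ l, Y.presheaf.map ((Opens.map i.base).map (homOfLE hV)).op (i.app V₀ (c'' l)) •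
        m V ((hV.trans hV₀).trans hWU) l = 0 := by
      rw [map_zero] at he
      refine Eq.trans ?_ he
      show _ = resM M ((Opens.map i.base).map (homOfLE hV)).le (∑ l, i.app V₀ (c'' l) • m V₀ (hV₀.trans hWU) l)
      rw [map_sum]
      refine Finset.sum_congr rfl fun l _ => ?_
      rw [resM_smul, hmres V₀ V _ hV l]
      rfl
    have h := congrFun ((hm V ((hV.trans hV₀).trans hWU)).1 (he'.trans (by simp :
      (0 : Γ(M, i ⁻¹ᵁ V)) = ∑ l, (0 : Fin r → Γ(Y, i ⁻¹ᵁ V)) l • m V ((hV.trans hV₀).trans hWU) l))) k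
    rw [← hc'' k, ← X.presheaf.germ_res_apply (homOfLE hV) _ hyV (c'' k)]
    exact germ_mem_IX i hyV ((ConcreteCategory.congr_hom (i.naturality (homOfLE hV).op) (c'' k)).trans h)

variable (hφ : ∀ (U V : Y.affineOpens) (h : V.1 ≤ U.1) (e : Fin q → (Omega.conormal i).val.obj (op U.1)),
      L.val.map (homOfLE h).op ((φ U).symm (exteriorPower.ιMulti _ q e)) =
        (φ V).symm (exteriorPower.ιMulti _ q (fun j => (Omega.conormal i).val.map (homOfLE h).op (e j))))

include hφ in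
theorem span_gen_germ {W U : X.Opens} (hW : IsAffineOpen W) (hWU : W ≤ U) (y : Y) (hy : i.base y ∈ W) {n r : ℕ}
    (g : Fin n → idl i W) (hspan : Ideal.span (Set.range fun j => (g j).1) = idl i W)
    (m : ∀ V : X.Opens, V ≤ U → Fin r → Γ(M, i ⁻¹ᵁ V))
    (hm : ∀ (V : X.Opens) (hV : V ≤ U), Function.Bijective fun c : Fin r → Γ(Y, i ⁻¹ᵁ V) => ∑ k, c k • m V hV k)
    (hmres : ∀ (V V' : X.Opens) (hV : V ≤ U) (h : V' ≤ V) (k : Fin r),
      resM M ((Opens.map i.base).map (homOfLE h)).le (m V hV k) = m V' (h.trans hV) k)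
    (t : st y (CohB1.tensorMod M L)) :
    ∃ c : Fin r × Set.powersetCard (Fin n) q → X.presheaf.stalk (i.base y),
      ∑ p, i.stalkMap y (c p) • gm (CohB1.tensorMod M L) (U := i ⁻¹ᵁ W) hy (gen i φ hW g (m W hWU) p) = t := by
  let ε : Fin r × Set.powersetCard (Fin n) q → st y (CohB1.tensorMod M L) := fun p =>
    gm _ (U := i ⁻¹ᵁ W) hy (gen i φ hW g (m W hWU) p)
  obtain ⟨Z, hyZ, s, rfl⟩ := exists_gm (CohB1.tensorMod M L) t
  obtain ⟨Z', rfl⟩ := DCat.ClosedPush.exists_preimage i Z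
  obtain ⟨V, hV, hyV, hVle⟩ := exists_affine_le i y (show i.base y ∈ W ⊓ Z' from ⟨hy, hyZ⟩)
  have hVW := hVle.trans inf_le_left
  let gV : Fin n → idl i V := fun j =>
    ⟨X.presheaf.map (homOfLE hVW).op (g j).1, FundLocal.res_mem_idl i hVW (g j).2⟩
  have hgspan := span_gen i φ hV gV (span_res i hW hV hVW g hspan) (m V (hVW.trans hWU)) (eq_top_iff.2 fun x _ =>
    (Submodule.mem_span_range_iff_exists_fun _).2 ((hm V (hVW.trans hWU)).2 x))
  have hle' := ((Opens.map i.base).map (homOfLE (hVle.trans inf_le_right))).le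
  obtain ⟨d, hd⟩ := (Submodule.mem_span_range_iff_exists_fun _).1 (hgspan.ge
    (Submodule.mem_top : resM (CohB1.tensorMod M L) hle' s ∈ _))
  choose c hc using fun p => i.stalkMap_surjective y (Y.presheaf.germ (i ⁻¹ᵁ V) y hyV (d p))
  refine ⟨c, ?_⟩
  rw [← gm_res _ hle' hyV s, ← hd, gm_sum]
  refine Finset.sum_congr rfl fun p _ => ?_
  rw [gm_smul, hc]
  refine congrArg _ ?_
  refine (gm_res _ ((Opens.map i.base).map (homOfLE hVW)).le hyV (gen i φ hW g (m W hWU) p)).symm.trans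
    (congrArg _ ?_)
  rw [gen, resM_tmul, hmres W V hWU hVW, FundLocal.lGen_res i φ hφ hW hV hVW]
  rfl

include hres

theorem map_gen {W : X.Opens} (hW : IsAffineOpen W) (y : Y) (hy : i.base y ∈ W) {n r : ℕ} (g : Fin n → idl i W)
    (m : Fin r → Γ(M, i ⁻¹ᵁ W)) (θ : CohB1.tensorMod M L ⟶ Oq i dA q)
    (hθ : ∀ (W : X.Opens) (hW : IsAffineOpen W) (m : Γ(M, i ⁻¹ᵁ W)) (a : Fin q → idl i W),
      θ.app (i ⁻¹ᵁ W) (tmul m (lGen i φ hW a)) = psi i dA α hres m a)
    (u : ∀ p, K (X.presheaf.stalk (i.base y)) n p →ₗ[X.presheaf.stalk (i.base y)] ↥(st (i.base y) (A p)))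
    (k : Fin r) (hu : Ring.IsWit (P := fun p => ↥(st (i.base y) (A p))) (dst dA (i.base y)) (ast α (i.base y))
      (fun j => X.presheaf.germ W (i.base y) hy (g j).1)
      (gm ((Scheme.Modules.pushforward i).obj M) (U := W) hy (m k)) u)
    (S : Set.powersetCard (Fin n) q) :
    (DerSch.stalkFunctor Y y).map θ (gm _ (U := i ⁻¹ᵁ W) hy (gen i φ hW g m (k, S))) =
      tau i dA y q (u q ((Pi.basisFun (X.presheaf.stalk (i.base y)) (Fin n)).exteriorPower q S)) := by
  let e := Set.powersetCard.ofFinEmbEquiv.symm S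
  let f : Fin n → X.presheaf.stalk (i.base y) := fun j => X.presheaf.germ W (i.base y) hy (g j).1
  rw [gm_map]
  refine (congrArg (gm (Oq i dA q) (U := i ⁻¹ᵁ W) hy) (hθ W hW (m k) (fun j => g (e j)))).trans ?_
  rw [gm_psi, Ring.ψAlt_apply]
  have hψ := Ring.ψ_eq (P := fun p => ↥(st (i.base y) (A p))) (hres y) (I := IX i y)
    (fun j => germ_mem_IX i hy (g j).2) hu (a := fun j => f (e j)) (Ring.stdVec e)
    fun j => Disc12.Koszul.functional_single f (e j)
  refine (congrArg (theta i dA y q) hψ).trans ((theta_mk i dA y q _).trans ?_)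
  refine congrArg (fun t => tau i dA y q (u q t)) ?_
  rw [exteriorPower.basis_apply, exteriorPower.ιMulti_family]
  exact congrArg _ (funext fun j => (Pi.basisFun_apply (X.presheaf.stalk (i.base y)) (Fin n) (e j)).symm)

variable {T : Y.Modules} (γ : Oq i dA q ⟶ T)
  (hγ : ∀ (y : Y) (a : st (i.base y) (A q)), (DerSch.stalkFunctor Y y).map γ (tau i dA y q a) = 0 ↔
    ∀ p (e : q = p + 1), dst dA (i.base y) p (e ▸ a) ∈
      IX i y • (⊤ : Submodule (X.presheaf.stalk (i.base y)) (st (i.base y) (A p))))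

include hφ hγ in
theorem stalk_main (hfr : HasFrames i) (hM : FlatMod.IsFinLocFree M)
    (hflat : ∀ (y : Y) (n : ℕ), Module.Flat (X.presheaf.stalk (i.base y)) (st (i.base y) (A n)))
    (θ : CohB1.tensorMod M L ⟶ Oq i dA q)
    (hθ : ∀ (W : X.Opens) (hW : IsAffineOpen W) (m : Γ(M, i ⁻¹ᵁ W)) (a : Fin q → idl i W),
      θ.app (i ⁻¹ᵁ W) (tmul m (lGen i φ hW a)) = psi i dA α hres m a) (y : Y) :
    Function.Injective ((DerSch.stalkFunctor Y y).map θ) ∧
      ∀ t : st y (Oq i dA q), (DerSch.stalkFunctor Y y).map γ t = 0 ↔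
        t ∈ Set.range ((DerSch.stalkFunctor Y y).map θ) := by
  obtain ⟨U, hyU, r, m, hm, hmres⟩ := exists_free i hM y
  obtain ⟨W, hW, hy, hWU, n, g, hspan, hK⟩ := hfr y U hyU
  haveI : ∀ p, Module.Flat (X.presheaf.stalk (i.base y)) (st (i.base y) (A p)) := hflat y
  let f : Fin n → X.presheaf.stalk (i.base y) := fun j => X.presheaf.germ W (i.base y) hy (g j).1
  have hf : ∀ j, f j ∈ IX i y := fun j => germ_mem_IX i hy (g j).2
  let mg : Fin r → st (i.base y) ((Scheme.Modules.pushforward i).obj M) := fun k =>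
    gm ((Scheme.Modules.pushforward i).obj M) (U := W) hy (m W hWU k)
  obtain ⟨hms, hmi⟩ := frame_basis i hWU y hy m hm hmres mg fun k => rfl
  choose u hu using fun k => Ring.exists_frame (P := fun p => ↥(st (i.base y) (A p))) (hres y) (kills i y) f hf (mg k)
  obtain ⟨hsurj, hinj⟩ := Ring.bijective_frame (P := fun p => ↥(st (i.base y) (A p))) (hres y) (kills i y) f
    (span_germ i hW y hy g hspan) (kreg_germ i hW y hy hK) mg hms hmi u hu q
  let ε : Fin r × Set.powersetCard (Fin n) q → st y (CohB1.tensorMod M L) := fun p =>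
    gm _ (U := i ⁻¹ᵁ W) hy (gen i φ hW g (m W hWU) p)
  let b := (Pi.basisFun (X.presheaf.stalk (i.base y)) (Fin n)).exteriorPower q
  let E : (Fin r × Set.powersetCard (Fin n) q → X.presheaf.stalk (i.base y)) →
      Fin r → K (X.presheaf.stalk (i.base y)) n q := fun c k => b.equivFun.symm fun S => c (k, S)
  let τ : ↥(st (i.base y) (A q)) →+ ↥(st y (Oq i dA q)) := AddMonoidHom.mk' (tau i dA y q) (tau_add i dA y q)
  have himg : ∀ c : Fin r × Set.powersetCard (Fin n) q → X.presheaf.stalk (i.base y),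
      (DerSch.stalkFunctor Y y).map θ (∑ p, i.stalkMap y (c p) • ε p) =
      tau i dA y q (∑ k, u k q (E c k)) := fun c => by
    have h1 : ∑ k, u k q (E c k) = ∑ p : Fin r × Set.powersetCard (Fin n) q, c p • u p.1 q (b p.2) := by
      rw [Fintype.sum_prod_type]
      refine Finset.sum_congr rfl fun k _ => ?_
      simp only [E, Module.Basis.equivFun_symm_apply, map_sum, map_smul]
    rw [h1]
    refine Eq.trans ?_ (map_sum τ (fun p => c p • u p.1 q (b p.2)) Finset.univ).symm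
    rw [map_sum]
    refine Finset.sum_congr rfl fun p _ => ?_
    show _ = tau i dA y q (c p • _)
    rw [map_smul, tau_smul]
    exact congrArg _ (map_gen i dA α hres φ hW y hy g (m W hWU) θ hθ (u p.1) p.1 (hu p.1) p.2)
  refine ⟨(injective_iff_map_eq_zero _).2 fun t ht => ?_, fun t => ⟨fun ht => ?_, ?_⟩⟩
  · obtain ⟨c, rfl⟩ := span_gen_germ i φ hφ hW hWU y hy g hspan m hm hmres t
    rw [himg, tau_eq_zero_iff] at ht
    refine Finset.sum_eq_zero fun p _ => ?_
    have hk := hinj (E c) ht p.1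
    have hco' : c p ∈ IX i y := by
      have hco := Submodule.mem_map_of_mem (f := (LinearMap.proj p.2).comp b.equivFun.toLinearMap) hk
      rw [Submodule.map_smul''] at hco
      have h2 := (Submodule.smul_mono le_rfl le_top :
        IX i y • _ ≤ IX i y • (⊤ : Submodule (X.presheaf.stalk (i.base y)) (X.presheaf.stalk (i.base y)))) hco
      simp only [Ideal.smul_eq_mul, Ideal.mul_top, E, LinearMap.comp_apply, LinearEquiv.coe_coe,
        LinearEquiv.apply_symm_apply, LinearMap.proj_apply] at h2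
      exact h2
    rw [show i.stalkMap y (c p) = 0 from hco', zero_smul]
  · obtain ⟨a, rfl⟩ := tau_surjective i dA y q t
    obtain ⟨e, he⟩ := hsurj a ((hγ y a).1 ht)
    generalize hce : (fun k => b.equivFun (e k)) = ce
    refine ⟨∑ p, i.stalkMap y (ce p.1 p.2) • ε p, ?_⟩
    rw [himg]
    have hE : (E fun p => ce p.1 p.2) = e := by
      refine funext fun k => ?_
      have hk : b.equivFun (e k) = ce k := congrFun hce k
      show b.equivFun.symm (fun S => ce k S) = e k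
      rw [show (fun S => ce k S) = ce k from rfl, ← hk, LinearEquiv.symm_apply_apply]
    rw [hE]
    have h' := (tau_eq_zero_iff i dA y q _).2 he
    have := tau_add i dA y q (a - ∑ k, u k q (e k)) (∑ k, u k q (e k))
    rw [sub_add_cancel, h', zero_add] at this
    exact this.symm
  · rintro ⟨s, rfl⟩
    obtain ⟨c, rfl⟩ := span_gen_germ i φ hφ hW hWU y hy g hspan m hm hmres s
    rw [himg, hγ]
    rintro p rfl
    rw [map_sum]
    exact Submodule.sum_mem _ fun k _ => Ring.wit_cycle hf (hu k) p _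

include hφ hγ in
/-- The product morphism computes the cycles. -/
theorem nonempty_iso_kernel (hfr : HasFrames i) (hM : FlatMod.IsFinLocFree M)
    (hflat : ∀ (y : Y) (n : ℕ), Module.Flat (X.presheaf.stalk (i.base y)) (st (i.base y) (A n))) :
    Nonempty (CohB1.tensorMod M L ≅ kernel γ) := by
  obtain ⟨θ, hθ⟩ := exists_prodHom i dA α hres φ hφ
  have main := stalk_main i dA α hres φ hφ γ hγ hfr hM hflat θ hθ
  have hcomp : θ ≫ γ = 0 := by
    refine Scheme.Modules.hom_ext _ _ fun V => ConcreteCategory.hom_ext _ _ fun s => gm_ext T fun y hy => ?_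
    show gm T hy (γ.app V (θ.app V s)) = gm T hy 0
    rw [← gm_map, ← gm_map, gm_zero, ((main y).2 _).2 ⟨_, rfl⟩]
  refine ⟨@asIso _ _ _ _ (kernel.lift γ θ hcomp) (isIso_of_stalks _ fun y =>
    (ConcreteCategory.isIso_iff_bijective _).2 ?_)⟩
  have hι : ∀ s, (DerSch.stalkFunctor Y y).map (kernel.ι γ) ((DerSch.stalkFunctor Y y).map (kernel.lift γ θ hcomp) s) =
      (DerSch.stalkFunctor Y y).map θ s := fun s => by
    rw [← ConcreteCategory.comp_apply, ← Functor.map_comp, kernel.lift_ι]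
  have hinjι : Function.Injective ((DerSch.stalkFunctor Y y).map (kernel.ι γ)) :=
    (ModuleCat.mono_iff_injective _).1 inferInstance
  refine ⟨fun a a' h => (main y).1 (by rw [← hι, ← hι, h]), fun z => ?_⟩
  obtain ⟨s, hs⟩ := ((main y).2 ((DerSch.stalkFunctor Y y).map (kernel.ι γ) z)).1 (by
    rw [← ConcreteCategory.comp_apply, ← Functor.map_comp, kernel.condition, Functor.map_zero]
    rfl)
  exact ⟨s, hinjι ((hι s).trans hs)⟩

end Groth.Agent.KTor28
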