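import Groth.Agent.KTor28.Main
import Groth.Agent.ModStalk.Pullback

/-!
# Annihilators of `N` kill the cohomology of a pulled back flat resolution of `N`
-/

set_option autoImplicit false
set_option linter.unusedSectionVars false
set_option linter.style.haveILetI false
set_option backward.isDefEq.respectTransparency false
set_option backward.isDefEq.respectTransparency.types false
set_option maxHeartbeats 1000000

universe u

open CategoryTheory CategoryTheory.Limits AlgebraicGeometry Opposite HomologicalComplex
open Groth.Agent Groth.Agent.ModStalk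
open scoped TensorProduct

attribute [local instance] HasDerivedCategory.standard
attribute [-instance] Int.instConditionallyCompleteLinearOrder

namespace Groth.Agent.KTor28

namespace Ring

variable {R : Type u} [CommRing R] {P : ℕ → Type u} [∀ n, AddCommGroup (P n)] [∀ n, Module R (P n)]
  {N : Type u} [AddCommGroup N] [Module R N] (δ : ∀ n, P (n + 1) →ₗ[R] P n) (π : P 0 →ₗ[R] N)

theorem exists_free_cover (T : Type u) [AddCommGroup T] [Module R T] :
    ∃ (F : Type u) (_ : AddCommGroup F) (_ : Module R F) (_ : Module.Flat R F) (T' : Type u) (_ : AddCommGroup T')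
      (_ : Module R T') (ι : T' →ₗ[R] F) (e : F →ₗ[R] T),
      Function.Injective ι ∧ Function.Surjective e ∧ Function.Exact ι e :=
  ⟨T →₀ R, inferInstance, inferInstance, inferInstance, ↥(LinearMap.ker (Finsupp.linearCombination R (id : T → T))),
    inferInstance, inferInstance, Submodule.subtype _, Finsupp.linearCombination R id, Subtype.val_injective,
    Finsupp.linearCombination_id_surjective R T, LinearMap.exact_subtype_ker_map _⟩

/-- Cycles of `T ⊗ P` times an annihilator of `N` are boundaries. -/
theorem smul_cycle_mem_range [∀ n, Module.Flat R (P n)] (h : IsRes δ π) {a : R} (ha : ∀ x : N, a • x = 0) :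
    ∀ (q : ℕ) (T : Type u) [AddCommGroup T] [Module R T] (x : T ⊗[R] P q),
      (∀ p (e : q = p + 1), LinearMap.lTensor T (δ p) (e ▸ x) = 0) →
      a • x ∈ LinearMap.range (LinearMap.lTensor T (δ q)) := by
  intro q
  induction q with
  | zero =>
    intro T _ _ x _
    refine ((lTensor_exact T h.exact0 h.surj) _).1 ?_
    have h0 : ∀ y : T ⊗[R] N, a • y = 0 := fun y => by
      induction y using TensorProduct.induction_on with
      | zero => exact smul_zero a
      | tmul t m => rw [← TensorProduct.tmul_smul, ha, TensorProduct.tmul_zero]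
      | add y y' hy hy' => rw [smul_add, hy, hy', add_zero]
    rw [map_smul, h0]
  | succ p ih =>
    intro T _ _ x hx
    obtain ⟨F, _, _, _, T', _, _, ι, e, hι, he, hex⟩ := exists_free_cover (R := R) T
    obtain ⟨x', rfl⟩ := LinearMap.rTensor_surjective (P (p + 1)) he x
    obtain ⟨y, hy⟩ := ((rTensor_exact (P p) hex he) (LinearMap.lTensor F (δ p) x')).1 (by
      rw [← LinearMap.comp_apply, LinearMap.rTensor_comp_lTensor, ← LinearMap.lTensor_comp_rTensor,
        LinearMap.comp_apply]
      exact hx p rfl)
    have hy' : ∀ r (e' : p = r + 1), LinearMap.lTensor T' (δ r) (e' ▸ y) = 0 := by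
      rintro r rfl
      refine Module.Flat.rTensor_preserves_injective_linearMap (M := P r) ι hι ?_
      rw [map_zero, ← LinearMap.comp_apply, LinearMap.rTensor_comp_lTensor, ← LinearMap.lTensor_comp_rTensor,
        LinearMap.comp_apply, hy, ← LinearMap.comp_apply, ← LinearMap.lTensor_comp, (h.exact r).linearMap_comp_eq_zero,
        LinearMap.lTensor_zero, LinearMap.zero_apply]
    obtain ⟨z, hz⟩ := ih T' y hy'
    obtain ⟨w, hw⟩ := ((Module.Flat.lTensor_exact F (h.exact p)) (a • x' - LinearMap.rTensor (P (p + 1)) ι z)).1 (by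
      rw [map_sub, map_smul, ← hy, ← map_smul, ← hz, ← LinearMap.comp_apply, ← LinearMap.comp_apply,
        LinearMap.rTensor_comp_lTensor, ← LinearMap.lTensor_comp_rTensor, sub_self])
    refine ⟨LinearMap.rTensor (P (p + 1 + 1)) e w, ?_⟩
    rw [← LinearMap.comp_apply, LinearMap.lTensor_comp_rTensor, ← LinearMap.rTensor_comp_lTensor,
      LinearMap.comp_apply, hw, map_sub, map_smul, ← LinearMap.comp_apply, ← LinearMap.rTensor_comp,
      hex.linearMap_comp_eq_zero, LinearMap.rTensor_zero, LinearMap.zero_apply, sub_zero]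

end Ring

variable {X X' : Scheme.{u}} (f : X' ⟶ X) {P : CochainComplex X.Modules ℤ}

/-- The pulled back complex. -/
noncomputable abbrev pullf (P : CochainComplex X.Modules ℤ) : CochainComplex X'.Modules ℤ :=
  ((Scheme.Modules.pullback f).mapHomologicalComplex (ComplexShape.up ℤ)).obj P

theorem smul_cycle_stalk {N : X.Modules} (c : P ⟶ (single X.Modules (ComplexShape.up ℤ) 0).obj N) [QuasiIso c]
    (hP : ∀ n : ℤ, 0 < n → IsZero (P.X n)) (hflat : ∀ n, FlatMod.IsFlat (P.X n)) (x : X')
    (a : X.presheaf.stalk (f.base x)) (ha : ∀ t : st (f.base x) N, a • t = 0) (q : ℕ) {i k : ℤ}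
    (hi : i = -(q : ℤ)) (hk : k = i + 1)
    (z : st x ((pullf f P).X i))
    (hz : (DerSch.stalkFunctor X' x).map ((pullf f P).d i k) z = 0) :
    ∃ w, (DerSch.stalkFunctor X' x).map ((pullf f P).d (-((q + 1 : ℕ) : ℤ)) i) w = f.stalkMap x a • z := by
  subst hi hk
  let φ := (f.stalkMap x).hom
  letI := φ.toAlgebra
  let R := X.presheaf.stalk (f.base x)
  let R' := X'.presheaf.stalk x
  haveI : ∀ n, Module.Flat R ↥(st (f.base x) (term P n)) := fun n => hflat _ (f.base x)
  let E := fun n : ℤ => (ModStalk.pullbackStalkIso f x).app (P.X n)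
  have hE : ∀ (n m : ℤ) (t : st x ((pullf f P).X n)),
      (E m).hom ((DerSch.stalkFunctor X' x).map ((pullf f P).d n m) t) =
        LinearMap.lTensor R' ((DerSch.stalkFunctor X (f.base x)).map (P.d n m)).hom ((E n).hom t) := fun n m t => by
    exact congr($((ModStalk.pullbackStalkIso f x).hom.naturality (P.d n m)) t)
  have key := Ring.smul_cycle_mem_range (P := fun n => ↥(st (f.base x) (term P n))) (dst (dterm P) (f.base x))
    (ast (A := term P) (c.f 0 ≫ (singleObjXSelf (ComplexShape.up ℤ) 0 N).hom) (f.base x)) (isRes_stalk c hP (f.base x))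
    ha q R' ((E _).hom z) (by
      rintro p rfl
      have hk : (-((p + 1 : ℕ) : ℤ)) + 1 = -(p : ℤ) := by omega
      have h0 := hE (-((p + 1 : ℕ) : ℤ)) (-((p + 1 : ℕ) : ℤ) + 1) z
      rw [hz, map_zero] at h0
      revert h0
      rw [hk]
      exact fun h0 => h0.symm)
  obtain ⟨w, hw⟩ := key
  refine ⟨(E _).inv w, (E _).toLinearEquiv.injective ?_⟩
  show (E _).hom _ = (E _).hom _
  rw [hE, map_smul]
  refine Eq.trans ?_ (hw.trans ?_)
  · exact congrArg _ ((E _).toLinearEquiv.apply_symm_apply w)
  · exact (algebraMap_smul R' a _).symm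

/-- The annihilators of the stalk of `N` kill the cohomology. -/
theorem smul_homology_stalk {N : X.Modules} (c : P ⟶ (single X.Modules (ComplexShape.up ℤ) 0).obj N) [QuasiIso c]
    (hP : ∀ n : ℤ, 0 < n → IsZero (P.X n)) (hflat : ∀ n, FlatMod.IsFlat (P.X n)) (x : X')
    (r : X'.presheaf.stalk x)
    (hr : r ∈ Ideal.map (f.stalkMap x).hom (Module.annihilator (X.presheaf.stalk (f.base x)) ↥(st (f.base x) N)))
    (q : ℕ) (t : st x ((pullf f P).homology (-(q : ℤ)))) : r • t = 0 := by
  induction hr using Submodule.span_induction with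
  | zero => exact zero_smul _ t
  | add r r' _ _ h h' => rw [add_smul, h, h', add_zero]
  | smul s r _ h => rw [smul_eq_mul, mul_smul, h, smul_zero]
  | mem r hr =>
    obtain ⟨a, ha, rfl⟩ := hr
    let F := DerSch.stalkFunctor X' x
    let K := pullf f P
    obtain ⟨s, rfl⟩ : ∃ s, F.map (K.homologyπ (-(q : ℤ))) s = t :=
      (ModuleCat.epi_iff_surjective _).1 (inferInstance : Epi (F.map (K.homologyπ (-(q : ℤ))))) t
    obtain ⟨w, hw⟩ := smul_cycle_stalk f c hP hflat x a (Module.mem_annihilator.1 ha) q rfl rfl
      (F.map (K.iCycles (-(q : ℤ))) s) (by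
        rw [← ConcreteCategory.comp_apply, ← Functor.map_comp, iCycles_d, Functor.map_zero]
        rfl)
    have hs : F.map (K.toCycles (-((q + 1 : ℕ) : ℤ)) (-(q : ℤ))) w = f.stalkMap x a • s := by
      refine (ModuleCat.mono_iff_injective _).1 (inferInstance : Mono (F.map (K.iCycles (-(q : ℤ))))) ?_
      rw [← ConcreteCategory.comp_apply, ← Functor.map_comp, toCycles_i, map_smul]
      exact hw
    rw [← map_smul, ← hs, ← ConcreteCategory.comp_apply, ← Functor.map_comp, toCycles_comp_homologyπ, Functor.map_zero]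
    rfl

end Groth.Agent.KTor28
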