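import Groth.Agent.KTor28.Iso
import Groth.Agent.DCat.LPull
import Groth.Agent.DCat.PullPerf
import Groth.Agent.DCat.TorSheaf
import Groth.Agent.DCat.PhiDiag
import Groth.Agent.SDiv28.RegSeq
import Groth.Prelude.Def_RegImm
import Groth.Prelude.Def_Mor2
import Mathlib.Algebra.Homology.DerivedCategory.Basic

/-!
# Cohomology sheaves of `Li^* i_* M` for a regular closed immersion
-/

set_option autoImplicit false
set_option linter.unusedSectionVars false
set_option linter.style.haveILetI false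
set_option backward.isDefEq.respectTransparency false
set_option backward.isDefEq.respectTransparency.types false
set_option maxHeartbeats 1000000

universe u

open CategoryTheory CategoryTheory.Limits AlgebraicGeometry Opposite TopologicalSpace HomologicalComplex
open Groth.Agent Groth.Agent.ModStalk Groth.Agent.Coherent
open Groth.Agent.FundLocal (idl)

attribute [local instance] HasDerivedCategory.standard
attribute [-instance] Int.instConditionallyCompleteLinearOrder

namespace Groth.Agent.KTor28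

variable {X Y : Scheme.{u}} (i : Y ⟶ X) [IsClosedImmersion i]

theorem hasFrames_of_regularAt
    (h : ∀ y : Y, ∃ (U : X.Opens) (_ : IsAffineOpen U), i.base y ∈ U ∧ ∃ rs : List Γ(X, U),
      RingTheory.Sequence.IsWeaklyRegular Γ(X, U) rs ∧ idl i U = Ideal.ofList rs) : HasFrames i := by
  intro y V hyV
  obtain ⟨U, hU, hyU, rs, hrs, hker⟩ := h y
  obtain ⟨f, hfV, hxf⟩ := hU.exists_basicOpen_le ⟨_, hyV⟩ hyU
  have hle : X.basicOpen f ≤ U := X.basicOpen_le f
  have hg : ∀ j, rs.get j ∈ idl i U := fun j => hker.ge (Ideal.subset_span (List.get_mem rs j))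
  refine ⟨X.basicOpen f, hU.basicOpen f, hxf, hfV, rs.length,
    fun j => ⟨X.presheaf.map (homOfLE hle).op (rs.get j), FundLocal.res_mem_idl i hle (hg j)⟩, ?_, ?_⟩
  · refine span_res i hU (hU.basicOpen f) hle (fun j => ⟨rs.get j, hg j⟩) ?_
    refine Eq.trans ?_ hker.symm
    exact CAlgH.KoszulRegular.span_range_get rs
  · have hK : CAlgH.KoszulRegular.KReg (fun j => rs.get j) :=
      SDiv28.RegSeq.kreg_of_regular (by rw [List.ofFn_get]; exact hrs)
    haveI := hU.isLocalization_basicOpen f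
    exact FlatMorKoszul.kreg_map
      (RingHom.flat_algebraMap_iff.2 (IsLocalization.flat Γ(X, X.basicOpen f) (Submonoid.powers f))) hK

theorem hasFrames_of_regularImmersion (hi : RegImm.IsRegularImmersion RegImm.Kind.regular i) : HasFrames i := by
  refine hasFrames_of_regularAt i fun y => ?_
  obtain ⟨U, hyU, -, rs, hrs, hker⟩ := hi.2 y
  exact ⟨U.1, U.2, hyU, rs, hrs.toIsWeaklyRegular, hker⟩

theorem hasFrames_of_mor2 (hi : Mor2.IsRegularClosedImmersion i) : HasFrames i := by
  refine hasFrames_of_regularAt i fun y => ?_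
  obtain ⟨U, hU, hyU, rs, hrs, hker⟩ := hi.2 y
  refine ⟨U, hU, hyU, rs, hrs.toIsWeaklyRegular, ?_⟩
  rw [← hker, Scheme.Hom.ker_apply]

variable (P : CochainComplex X.Modules ℤ)

/-- The terms, indexed by the natural numbers. -/
noncomputable abbrev term (n : ℕ) : X.Modules := P.X (-(n : ℤ))

/-- The differentials, indexed by the natural numbers. -/
noncomputable abbrev dterm (n : ℕ) : term P (n + 1) ⟶ term P n := P.d _ _

variable {P}

theorem isRes_stalk {N : X.Modules} (c : P ⟶ (single X.Modules (ComplexShape.up ℤ) 0).obj N) [QuasiIso c]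
    (hP : ∀ n : ℤ, 0 < n → IsZero (P.X n)) (x : X) :
    Ring.IsRes (P := fun n => ↥(st x (term P n))) (dst (dterm P) x)
      (ast (A := term P) (c.f 0 ≫ (singleObjXSelf (ComplexShape.up ℤ) 0 N).hom) x) := by
  let S := DerSch.stalkFunctor X x
  have hex : ∀ n : ℤ, n ≠ 0 → P.ExactAt n := fun n hn => by
    rw [exactAt_iff_isZero_homology]
    exact IsZero.of_iso ((exactAt_iff_isZero_homology _ _).1
      (exactAt_single_obj (ComplexShape.up ℤ) 0 N n hn)) (asIso (homologyMap c n))
  refine ⟨fun n => ?_, ?_, ?_⟩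
  · have h := hex (-((n : ℤ) + 1)) (by omega)
    rw [exactAt_iff' P (-((n + 1 + 1 : ℕ) : ℤ)) (-((n : ℤ) + 1)) (-(n : ℤ)) (by simp; omega) (by simp)] at h
    exact (ShortComplex.ShortExact.moduleCat_exact_iff_function_exact _).1 (h.map S)
  · have hq := (quasiIsoAt_iff' c (-1) 0 1 (by simp) (by simp)).1 inferInstance
    have hq' := (ShortComplex.quasiIso_iff_of_zeros' _ ((hP 1 one_pos).eq_of_tgt _ _) (single_obj_d (ComplexShape.up ℤ) 0 N (-1) 0)
      (single_obj_d (ComplexShape.up ℤ) 0 N 0 1)).1 hq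
    have h2 : (ShortComplex.mk (P.d (-((0 + 1 : ℕ) : ℤ)) 0) (c.f 0 ≫ (singleObjXSelf (ComplexShape.up ℤ) 0 N).hom)
        (by rw [← Category.assoc, ← c.comm, single_obj_d, comp_zero, zero_comp])).Exact := by
      refine (ShortComplex.exact_iff_of_iso ?_).1 hq'.1
      exact ShortComplex.isoMk (eqToIso (by simp)) (Iso.refl _) (singleObjXSelf (ComplexShape.up ℤ) 0 N)
        (by simp) (by simp)
    exact (ShortComplex.ShortExact.moduleCat_exact_iff_function_exact _).1 (h2.map S)
  · have hq := (quasiIsoAt_iff' c (-1) 0 1 (by simp) (by simp)).1 inferInstance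
    have hq' := (ShortComplex.quasiIso_iff_of_zeros' _ ((hP 1 one_pos).eq_of_tgt _ _) (single_obj_d (ComplexShape.up ℤ) 0 N (-1) 0)
      (single_obj_d (ComplexShape.up ℤ) 0 N 0 1)).1 hq
    haveI : Epi (c.f 0) := hq'.2
    exact (ModuleCat.epi_iff_surjective _).1
      (inferInstanceAs (Epi (S.map (c.f 0 ≫ (singleObjXSelf (ComplexShape.up ℤ) 0 N).hom))))

theorem mem_smul_congr (y : Y) (P : CochainComplex X.Modules ℤ) {k : ℤ}
    (a : st (i.base y) (P.X k)) {j j' : ℤ} (h : j = j') :
    (DerSch.stalkFunctor X (i.base y)).map (P.d k j) a ∈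
        IX i y • (⊤ : Submodule (X.presheaf.stalk (i.base y)) (st (i.base y) (P.X j))) ↔
      (DerSch.stalkFunctor X (i.base y)).map (P.d k j') a ∈
        IX i y • (⊤ : Submodule (X.presheaf.stalk (i.base y)) (st (i.base y) (P.X j'))) := by
  subst h; rfl

variable (P) in
/-- The inverse image complex. -/
noncomputable abbrev pullCx : CochainComplex Y.Modules ℤ :=
  ((Scheme.Modules.pullback i).mapHomologicalComplex (ComplexShape.up ℤ)).obj P

/-- The cohomology of `i^* P` for a flat resolution `P` of `i_* M`. -/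
theorem nonempty_homology_iso {M : Y.Modules} (hfr : HasFrames i) (hM : FlatMod.IsFinLocFree M) {q : ℕ}
    {L : Y.Modules} (hL : ExtPow.IsExtPow q (Omega.conormal i) L)
    (c : P ⟶ (single X.Modules (ComplexShape.up ℤ) 0).obj ((Scheme.Modules.pushforward i).obj M)) [QuasiIso c]
    (hP : ∀ n : ℤ, 0 < n → IsZero (P.X n)) (hflat : ∀ n, FlatMod.IsFlat (P.X n)) :
    Nonempty ((pullCx i P).homology (-(q : ℤ)) ≅ CohB1.tensorMod M L) := by
  haveI : Coh.IsQCoh M := CAlgH3.LocFreeFactor.isQCoh_of_finLocFree hM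
  haveI : Coh.IsQCoh (Omega.conormal i) := Omega15.isQCoh_conormal i
  haveI : Coh.IsQCoh L := Hyper5.isQCoh_of_isExtPow hL
  obtain ⟨φ, hφ⟩ := hL
  let Q := pullCx i P
  let α := c.f 0 ≫ (singleObjXSelf (ComplexShape.up ℤ) 0 ((Scheme.Modules.pushforward i).obj M)).hom
  have hc := opcyclesIsCokernel Q (-((q + 1 : ℕ) : ℤ)) (-(q : ℤ)) (by simp; omega)
  let e : Oq i (dterm P) q ≅ Q.opcycles (-(q : ℤ)) :=
    (cokernelIsCokernel ((Scheme.Modules.pullback i).map (dterm P q))).coconePointUniqueUpToIso hc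
  have he : piO i (dterm P) q ≫ e.hom = Q.pOpcycles (-(q : ℤ)) :=
    (cokernelIsCokernel ((Scheme.Modules.pullback i).map (dterm P q))).comp_coconePointUniqueUpToIso_hom hc
      WalkingParallelPair.one
  let γ : Oq i (dterm P) q ⟶ Q.X (1 - (q : ℤ)) := e.hom ≫ Q.fromOpcycles (-(q : ℤ)) (1 - (q : ℤ))
  have hγ : ∀ (y : Y) (a : st (i.base y) (term P q)),
      (DerSch.stalkFunctor Y y).map γ (tau i (dterm P) y q a) = 0 ↔
      ∀ p (h : q = p + 1), dst (dterm P) (i.base y) p (h ▸ a) ∈
        IX i y • (⊤ : Submodule (X.presheaf.stalk (i.base y)) (st (i.base y) (term P p))) := by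
    intro y a
    have hcomp : (DerSch.stalkFunctor Y y).map γ (tau i (dterm P) y q a) =
        rho i y (P.X (1 - (q : ℤ))) ((DerSch.stalkFunctor X (i.base y)).map (P.d (-(q : ℤ)) (1 - (q : ℤ))) a) := by
      show (DerSch.stalkFunctor Y y).map γ ((DerSch.stalkFunctor Y y).map (piO i (dterm P) q) _) = _
      rw [← ConcreteCategory.comp_apply, ← Functor.map_comp,
        show piO i (dterm P) q ≫ γ = (Scheme.Modules.pullback i).map (P.d (-(q : ℤ)) (1 - (q : ℤ))) by
          show piO i (dterm P) q ≫ e.hom ≫ _ = _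
          rw [reassoc_of% he, p_fromOpcycles]
          rfl]
      exact rho_nat i y (P.d (-(q : ℤ)) (1 - (q : ℤ))) a
    rw [hcomp, rho_eq_zero_iff]
    constructor
    · rintro h p rfl
      exact (mem_smul_congr i y P a (show (1 : ℤ) - ((p + 1 : ℕ) : ℤ) = -(p : ℤ) by omega)).1 h
    · intro h
      cases q with
      | zero =>
        haveI := ModuleCat.subsingleton_of_isZero ((DerSch.stalkFunctor X (i.base y)).map_isZero
          (hP (1 - ((0 : ℕ) : ℤ)) (by simp)))
        rw [Subsingleton.elim ((DerSch.stalkFunctor X (i.base y)).map (P.d (-((0 : ℕ) : ℤ)) (1 - ((0 : ℕ) : ℤ))) a) 0]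
        exact Submodule.zero_mem _
      | succ p => exact (mem_smul_congr i y P a (show (1 : ℤ) - ((p + 1 : ℕ) : ℤ) = -(p : ℤ) by omega)).2 (h p rfl)
  obtain ⟨f⟩ := nonempty_iso_kernel (A := term P) i (dterm P) α (fun y => isRes_stalk c hP (i.base y)) φ hφ γ hγ hfr hM
    (fun y n => hflat _ (i.base y))
  exact ⟨(Q.homologyIsKernel (-(q : ℤ)) (1 - (q : ℤ)) (by simp; omega)).conePointUniqueUpToIso
    (kernelIsKernel _) ≪≫ (kernelIsIsoComp e.hom (Q.fromOpcycles (-(q : ℤ)) (1 - (q : ℤ)))).symm ≪≫ f.symm⟩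

/-- The cohomology sheaves of `Li^* i_* M`. -/
theorem nonempty_HD_Lpull_iso [DCoh.HasLpull i] {M : Y.Modules} (hfr : HasFrames i) (hM : FlatMod.IsFinLocFree M)
    {q : ℕ} {L : Y.Modules} (hL : ExtPow.IsExtPow q (Omega.conormal i) L) :
    Nonempty (DCoh.HD ((DCoh.Lpull i).obj (DCoh.inD X ((Scheme.Modules.pushforward i).obj M))) (-(q : ℤ)) ≅
      CohB1.tensorMod M L) := by
  obtain ⟨P, c, hk, hflat, hqi, hP⟩ := DCat.exists_kflat_sheaf_le
    ((single X.Modules (ComplexShape.up ℤ) 0).obj ((Scheme.Modules.pushforward i).obj M)) 0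
    (fun n hn => isZero_single_obj_X _ _ _ _ (by omega))
  haveI := hqi
  obtain ⟨f⟩ := nonempty_homology_iso i hfr hM hL c hP hflat
  exact ⟨(DerivedCategory.homologyFunctor Y.Modules _).mapIso
      ((DCoh.Lpull i).mapIso ((DerivedCategory.singleFunctorIsoCompQ X.Modules 0).app _ ≪≫
        (asIso (DerivedCategory.Q.map c)).symm) ≪≫ DCat.PullPerf.lpullIso i hk) ≪≫
    (DerivedCategory.homologyFunctorFactors Y.Modules _).app _ ≪≫ f⟩

/-- `Li^* i_* M` lives in degrees `≤ 0`. -/
theorem isZero_HD_Lpull_pos [DCoh.HasLpull i] (M : Y.Modules) (k : ℤ) (hk0 : 0 < k) :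
    IsZero (DCoh.HD ((DCoh.Lpull i).obj (DCoh.inD X ((Scheme.Modules.pushforward i).obj M))) k) := by
  obtain ⟨P, c, hk, hflat, hqi, hP⟩ := DCat.exists_kflat_sheaf_le
    ((single X.Modules (ComplexShape.up ℤ) 0).obj ((Scheme.Modules.pushforward i).obj M)) 0
    (fun n hn => isZero_single_obj_X _ _ _ _ (by omega))
  haveI := hqi
  refine IsZero.of_iso ?_ ((DerivedCategory.homologyFunctor Y.Modules _).mapIso
      ((DCoh.Lpull i).mapIso ((DerivedCategory.singleFunctorIsoCompQ X.Modules 0).app _ ≪≫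
        (asIso (DerivedCategory.Q.map c)).symm) ≪≫ DCat.PullPerf.lpullIso i hk) ≪≫
    (DerivedCategory.homologyFunctorFactors Y.Modules _).app _)
  exact (exactAt_iff_isZero_homology _ _).1
    (ShortComplex.exact_of_isZero_X₂ _ ((Scheme.Modules.pullback i).map_isZero (hP k hk0)))

/-- `- ⊗ i_* O = i_* i^*`. -/
noncomputable def tensorPushIso :
    DCoh.tensorRightMod ((Scheme.Modules.pushforward i).obj (Coh.structureModule Y)) ≅
      Scheme.Modules.pullback i ⋙ Scheme.Modules.pushforward i :=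
  (NatIso.ofComponents (fun N => Iso.refl _) (fun {N N'} φ => (Category.comp_id _).trans (Category.id_comp _).symm) :
      DCoh.tensorRightMod ((Scheme.Modules.pushforward i).obj (Coh.structureModule Y)) ≅
        (DCat.shT X).flip.obj ((Scheme.Modules.pushforward i).obj (Coh.structureModule Y))) ≪≫
    DCat.PhiDiag.comm _ ≪≫ DCat.PhiDiag.proj i _ ≪≫ Functor.isoWhiskerLeft _
      (Functor.isoWhiskerRight ((DCat.PhiDiag.comm (Coh.structureModule Y)).symm ≪≫ DCat.RHomLeft.rightUnitIso Y) _ ≪≫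
        Functor.leftUnitor _)

/-- The cohomology sheaves of `i_* M ⊗^L i_* O`. -/
theorem nonempty_HD_LTensor_iso [DCoh.HasLTensorMod ((Scheme.Modules.pushforward i).obj (Coh.structureModule Y))]
    {M : Y.Modules} (hfr : HasFrames i) (hM : FlatMod.IsFinLocFree M) {q : ℕ} {L : Y.Modules}
    (hL : ExtPow.IsExtPow q (Omega.conormal i) L) :
    Nonempty (DCoh.HD ((DCoh.LTensorMod ((Scheme.Modules.pushforward i).obj (Coh.structureModule Y))).obj
      (DCoh.inD X ((Scheme.Modules.pushforward i).obj M))) (-(q : ℤ)) ≅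
      (Scheme.Modules.pushforward i).obj (CohB1.tensorMod M L)) := by
  obtain ⟨P, c, hk, hflat, hqi, hP⟩ := DCat.exists_kflat_sheaf_le
    ((single X.Modules (ComplexShape.up ℤ) 0).obj ((Scheme.Modules.pushforward i).obj M)) 0
    (fun n hn => isZero_single_obj_X _ _ _ _ (by omega))
  haveI := hqi
  obtain ⟨f⟩ := nonempty_homology_iso i hfr hM hL c hP hflat
  let e := (DCoh.LTensorMod ((Scheme.Modules.pushforward i).obj (Coh.structureModule Y))).mapIso
    ((DerivedCategory.singleFunctorIsoCompQ X.Modules 0).app _ ≪≫ (asIso (DerivedCategory.Q.map c)).symm) ≪≫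
    DCat.ltensorModIso _ hk
  exact ⟨(DerivedCategory.homologyFunctor X.Modules _).mapIso e ≪≫
    (DerivedCategory.homologyFunctorFactors X.Modules _).app _ ≪≫
    (HomologicalComplex.homologyFunctor X.Modules (ComplexShape.up ℤ) _).mapIso
      ((NatIso.mapHomologicalComplex (tensorPushIso i) (ComplexShape.up ℤ)).app P) ≪≫
    ((pullCx i P).sc (-(q : ℤ))).mapHomologyIso (Scheme.Modules.pushforward i) ≪≫
    (Scheme.Modules.pushforward i).mapIso f⟩

end Groth.Agent.KTor28
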