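import Groth.Agent.Disc12.Koszul.Ext
import Groth.Agent.InjMod14.Kosz.Basic
import Groth.Agent.CAlgH.KoszulRegular
import Groth.Agent.FlatCx12.TorDimBC
import Mathlib.RingTheory.Flat.Equalizer
import Mathlib.LinearAlgebra.ExteriorPower.Basis

/-!
# Tor against a Koszul regular ideal: the product map, at the level of rings

For a resolution `P` of a module `N` killed by `I`, a sequence `a` in `I` and `m ∈ N` give a class `ψ m a` in
`P_q / (∂ P_{q+1} + I P_q)`; for `I` generated by a Koszul regular sequence these give `Tor_q(N, R/I)`.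
-/

set_option autoImplicit false
set_option linter.unusedSectionVars false
set_option backward.isDefEq.respectTransparency false

universe u

open Groth.Agent.Disc12.Koszul

namespace Groth.Agent.KTor28.Ring

variable {R : Type u} [CommRing R]

instance free_K (n p : ℕ) : Module.Free R (K R n p) :=
  Module.Free.of_basis ((Pi.basisFun R (Fin n)).exteriorPower p)

theorem exists_lift_range {Q A B : Type u} [AddCommGroup Q] [Module R Q] [Module.Projective R Q] [AddCommGroup A]
    [Module R A] [AddCommGroup B] [Module R B] (g : A →ₗ[R] B) (h : Q →ₗ[R] B) (hh : ∀ x, h x ∈ LinearMap.range g) :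
    ∃ h' : Q →ₗ[R] A, ∀ x, g (h' x) = h x := by
  obtain ⟨h', he⟩ := Module.projective_lifting_property g.rangeRestrict (h.codRestrict _ hh)
    g.surjective_rangeRestrict
  exact ⟨h', fun x => congrArg Subtype.val (LinearMap.congr_fun he x)⟩

theorem e0_injective (n : ℕ) : Function.Injective (e0 (R := R) (n := n)) := fun r s h =>
  (ExteriorAlgebra.algebraMap_leftInverse (Fin n → R)).injective (congrArg Subtype.val h)

theorem kmap_ιMulti {n m : ℕ} (C : (Fin n → R) →ₗ[R] (Fin m → R)) (p : ℕ) (v : Fin p → Fin n → R) :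
    kmap C p (exteriorPower.ιMulti R p v) = exteriorPower.ιMulti R p (C ∘ v) :=
  Subtype.ext (ExteriorAlgebra.map_apply_ιMulti C v)

variable {P : ℕ → Type u} [∀ n, AddCommGroup (P n)] [∀ n, Module R (P n)]
  {N : Type u} [AddCommGroup N] [Module R N]
  (δ : ∀ n, P (n + 1) →ₗ[R] P n) (π : P 0 →ₗ[R] N)

/-- A resolution. -/
structure IsRes : Prop where
  exact : ∀ n, Function.Exact (δ (n + 1)) (δ n)
  exact0 : Function.Exact (δ 0) π
  surj : Function.Surjective π

/-- A chain map from a Koszul complex with given value in degree zero. -/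
def IsWit {n : ℕ} (f : Fin n → R) (m : N) (u : ∀ p, K R n p →ₗ[R] P p) : Prop :=
  π (u 0 (e0 1)) = m ∧ ∀ p x, δ p (u (p + 1) x) = u p (d f p x)

variable {δ π}

theorem exists_wit (h : IsRes δ π) {n : ℕ} (f : Fin n → R) (m : N) (hm : ∀ i, f i • m = 0) :
    ∃ u, IsWit δ π f m u := by
  obtain ⟨z, hz⟩ := h.surj m
  let ε : R ≃ₗ[R] K R n 0 := LinearEquiv.ofBijective e0 ⟨e0_injective n, e0_surjective⟩
  let u0 : K R n 0 →ₗ[R] P 0 := (LinearMap.toSpanSingleton R _ z) ∘ₗ ε.symm.toLinearMap
  have hu0 : ∀ r : R, u0 (e0 r) = r • z := fun r => by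
    show LinearMap.toSpanSingleton R _ z (ε.symm (ε r)) = _
    rw [ε.symm_apply_apply]
    rfl
  have hann : ∀ r ∈ Ideal.span (Set.range f), r • m = 0 := fun r hr => by
    have hle : Ideal.span (Set.range f) ≤ LinearMap.ker (LinearMap.toSpanSingleton R N m) := by
      rw [Ideal.span, Submodule.span_le]
      rintro _ ⟨i, rfl⟩
      exact hm i
    exact hle hr
  obtain ⟨u1, hu1⟩ := exists_lift_range (δ 0) (u0 ∘ₗ d f 0) fun x => by
    obtain ⟨s, hs, hsx⟩ := (range_d_zero f).le ⟨x, rfl⟩
    refine (h.exact0 _).1 ?_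
    rw [LinearMap.comp_apply, ← hsx, hu0, map_smul, hz]
    exact hann s hs
  let St := fun p : ℕ => {v : (K R n p →ₗ[R] P p) × (K R n (p + 1) →ₗ[R] P (p + 1)) //
    ∀ x, δ p (v.2 x) = v.1 (d f p x)}
  have step : ∀ p (v : St p), ∃ w : K R n (p + 1 + 1) →ₗ[R] P (p + 1 + 1),
      ∀ x, δ (p + 1) (w x) = v.1.2 (d f (p + 1) x) := fun p v =>
    exists_lift_range (δ (p + 1)) (v.1.2 ∘ₗ d f (p + 1)) fun x => (h.exact p _).1 <| by
      rw [LinearMap.comp_apply, v.2, ← LinearMap.comp_apply (d f p), d_d, LinearMap.zero_apply, map_zero]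
  choose w hw using step
  let seq : ∀ p, St p := fun p => Nat.rec (motive := St) ⟨(u0, u1), hu1⟩ (fun p v => ⟨(v.1.2, w p v), hw p v⟩) p
  exact ⟨fun p => (seq p).1.1, by show π (u0 (e0 1)) = m; rw [hu0, one_smul, hz], fun p x => (seq p).2 x⟩

variable (δ) in
/-- The target of the product map. -/
abbrev Opq (I : Ideal R) (q : ℕ) : Type u :=
  P q ⧸ (LinearMap.range (δ q) ⊔ I • (⊤ : Submodule R (P q)))

theorem wit_unique (h : IsRes δ π) {I : Ideal R} {n : ℕ} {f : Fin n → R} (hf : ∀ i, f i ∈ I) {m : N}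
    {u u' : ∀ p, K R n p →ₗ[R] P p} (hu : IsWit δ π f m u) (hu' : IsWit δ π f m u') (q : ℕ) (e : K R n q) :
    u q e - u' q e ∈ LinearMap.range (δ q) ⊔ I • (⊤ : Submodule R (P q)) := by
  let w : ∀ p, K R n p →ₗ[R] P p := fun p => u p - u' p
  have hw : ∀ p x, δ p (w (p + 1) x) = w p (d f p x) := fun p x => by
    simp only [w, LinearMap.sub_apply, map_sub, hu.2, hu'.2]
  obtain ⟨k0, hk0⟩ := exists_lift_range (δ 0) (w 0) fun x => (h.exact0 _).1 <| by
    obtain ⟨r, rfl⟩ := e0_surjective x
    have he : (e0 r : K R n 0) = r • e0 1 := by rw [← map_smul, smul_eq_mul, mul_one]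
    rw [he, map_smul, map_smul]
    simp only [w, LinearMap.sub_apply, map_sub, hu.1, hu'.1, sub_self, smul_zero]
  have key : ∀ p, ∃ k : K R n p →ₗ[R] P (p + 1), ∀ x, δ p (k (d f p x)) = δ p (w (p + 1) x) := by
    intro p
    induction p with
    | zero => exact ⟨k0, fun x => by rw [hk0, hw]⟩
    | succ p ih =>
      obtain ⟨k, hk⟩ := ih
      obtain ⟨k', hk'⟩ := exists_lift_range (δ (p + 1)) (w (p + 1) - k ∘ₗ d f p) fun x => (h.exact p _).1 <| by
        rw [LinearMap.sub_apply, map_sub, LinearMap.comp_apply, hk, sub_self]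
      refine ⟨k', fun x => ?_⟩
      rw [hk', hw, LinearMap.sub_apply, LinearMap.comp_apply, ← LinearMap.comp_apply (d f p), d_d,
        LinearMap.zero_apply, map_zero, sub_zero]
  show w q e ∈ _
  cases q with
  | zero => exact Submodule.mem_sup_left ⟨k0 e, hk0 e⟩
  | succ p =>
    obtain ⟨k, hk⟩ := key p
    obtain ⟨y, hy⟩ := (h.exact p _).1 (show δ p (w (p + 1) e - k (d f p e)) = 0 by rw [map_sub, hk, sub_self])
    have he : w (p + 1) e = δ (p + 1) y + k (d f p e) := by rw [hy, sub_add_cancel]
    rw [he]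
    refine Submodule.add_mem _ (Submodule.mem_sup_left ⟨y, rfl⟩) (Submodule.mem_sup_right ?_)
    have hle : (Ideal.span (Set.range f) • (⊤ : Submodule R (K R n p))).map k ≤
        I • (⊤ : Submodule R (P (p + 1))) := by
      rw [Submodule.map_smul'']
      refine Submodule.smul_mono ?_ le_top
      rw [Ideal.span_le]
      rintro _ ⟨i, rfl⟩
      exact hf i
    exact hle ⟨_, d_mem_smul f p e, rfl⟩

variable (δ π) in
open scoped Classical in
/-- The product of `m` and a sequence in the ideal. -/
noncomputable def ψ (I : Ideal R) {q : ℕ} (m : N) (a : Fin q → R) : Opq δ I q :=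
  if h : ∃ u, IsWit δ π a m u then Submodule.Quotient.mk (h.choose q top) else 0

theorem ψ_eq (h : IsRes δ π) {I : Ideal R} {n q : ℕ} {f : Fin n → R} (hf : ∀ i, f i ∈ I) {m : N}
    {u : ∀ p, K R n p →ₗ[R] P p} (hu : IsWit δ π f m u) {a : Fin q → R} (c : Fin q → Fin n → R)
    (hc : ∀ i, functional f (c i) = a i) :
    ψ δ π I m a = Submodule.Quotient.mk (u q (exteriorPower.ιMulti R q c)) := by
  have ha : ∀ i, a i ∈ I := fun i => by
    rw [← hc i, functional_apply]
    exact Ideal.sum_mem _ fun j _ => Ideal.mul_mem_left _ _ (hf j)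
  let C : (Fin q → R) →ₗ[R] (Fin n → R) := Fintype.linearCombination R c
  have hC : ∀ i, C (Pi.basisFun R (Fin q) i) = c i := fun i => by
    simp [C, Pi.basisFun_apply, Fintype.linearCombination_apply_single]
  have hCf : functional f ∘ₗ C = functional a := by
    refine (Pi.basisFun R (Fin q)).ext fun i => ?_
    rw [LinearMap.comp_apply, hC, hc, Pi.basisFun_apply, functional_single]
  have hw : IsWit δ π a m (fun p => u p ∘ₗ kmap C p) :=
    ⟨by rw [LinearMap.comp_apply, kmap_zero]; exact hu.1, fun p x => by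
      rw [LinearMap.comp_apply, hu.2, ← LinearMap.comp_apply (d f p), d_kmap f a C hCf]
      rfl⟩
  have hex : ∃ u, IsWit δ π a m u := ⟨_, hw⟩
  rw [ψ, dif_pos hex, Submodule.Quotient.eq]
  have := wit_unique h ha hex.choose_spec hw q top
  rwa [LinearMap.comp_apply, top, kmap_ιMulti, show (C ∘ ⇑(Pi.basisFun R (Fin q))) = c from funext hC] at this

variable {I : Ideal R}

/-- A common witness for finitely many tuples. -/
theorem exists_frame (h : IsRes δ π) (hI : ∀ r ∈ I, ∀ x : N, r • x = 0) {n : ℕ} (f : Fin n → R)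
    (hf : ∀ i, f i ∈ I) (m : N) : ∃ u, IsWit δ π f m u :=
  exists_wit h f m fun i => hI _ (hf i) m

theorem ψ_add_left (h : IsRes δ π) (hI : ∀ r ∈ I, ∀ x : N, r • x = 0) {q : ℕ} (m m' : N) (a : Fin q → R)
    (ha : ∀ i, a i ∈ I) : ψ δ π I (m + m') a = ψ δ π I m a + ψ δ π I m' a := by
  obtain ⟨u, hu⟩ := exists_frame h hI a ha m
  obtain ⟨u', hu'⟩ := exists_frame h hI a ha m'
  have hc : ∀ i, functional a (Pi.single i (1 : R)) = a i := fun i => functional_single a i
  rw [ψ_eq h ha hu _ hc, ψ_eq h ha hu' _ hc, ψ_eq h ha (u := fun p => u p + u' p) (m := m + m')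
    ⟨by rw [LinearMap.add_apply, map_add, hu.1, hu'.1],
      fun p x => by rw [LinearMap.add_apply, map_add, hu.2, hu'.2]; rfl⟩ _ hc,
    LinearMap.add_apply, Submodule.Quotient.mk_add]

theorem ψ_smul_left (h : IsRes δ π) (hI : ∀ r ∈ I, ∀ x : N, r • x = 0) {q : ℕ} (r : R) (m : N) (a : Fin q → R)
    (ha : ∀ i, a i ∈ I) : ψ δ π I (r • m) a = r • ψ δ π I m a := by
  obtain ⟨u, hu⟩ := exists_frame h hI a ha m
  have hc : ∀ i, functional a (Pi.single i (1 : R)) = a i := fun i => functional_single a i
  rw [ψ_eq h ha hu _ hc, ψ_eq h ha (u := fun p => r • u p) (m := r • m)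
    ⟨by rw [LinearMap.smul_apply, map_smul, hu.1],
      fun p x => by rw [LinearMap.smul_apply, map_smul, hu.2]; rfl⟩ _ hc,
    LinearMap.smul_apply, Submodule.Quotient.mk_smul]

variable (δ π I) in
/-- The product, alternating multilinear in the sequence. -/
noncomputable def ψAlt (h : IsRes δ π) (hI : ∀ r ∈ I, ∀ x : N, r • x = 0) (q : ℕ) (m : N) :
    ↥I [⋀^Fin q]→ₗ[R] Opq δ I q where
  toFun a := ψ δ π I m fun i => (a i).1
  map_update_add' := by
    intro inst a i₀ x y
    let f : Fin (q + 2) → R := Fin.append (fun i => (a i).1) ![x.1, y.1]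
    have hf : ∀ i, f i ∈ I := fun i => by
      refine Fin.addCases (fun j => ?_) (fun j => ?_) i
      · simp [f, (a j).2]
      · fin_cases j <;> simp [f, x.2, y.2]
    obtain ⟨u, hu⟩ := exists_frame h hI f hf m
    let c : Fin q → Fin (q + 2) → R := fun i => Pi.single (Fin.castAdd 2 i) 1
    let s : Fin 2 → Fin (q + 2) → R := fun j => Pi.single (Fin.natAdd q j) 1
    have key : ∀ (v : Fin (q + 2) → R) (z : ↥I), functional f v = z.1 →
        ψ δ π I m (fun i => (Function.update a i₀ z i).1) =
          Submodule.Quotient.mk (u q (exteriorPower.ιMulti R q (Function.update c i₀ v))) := fun v z hv => by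
      refine ψ_eq h hf hu _ fun i => ?_
      rcases eq_or_ne i i₀ with rfl | hne
      · rw [Function.update_self, Function.update_self, hv]
      · rw [Function.update_of_ne hne, Function.update_of_ne hne, functional_single]
        simp [f]
    have h0 : functional f (s 0) = x.1 := by rw [functional_single]; simp [f]
    have h1 : functional f (s 1) = y.1 := by rw [functional_single]; simp [f]
    show ψ δ π I m _ = ψ δ π I m _ + ψ δ π I m _
    rw [key (s 0 + s 1) (x + y) (by rw [map_add, h0, h1]; rfl), key (s 0) x h0, key (s 1) y h1,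
      AlternatingMap.map_update_add, map_add, Submodule.Quotient.mk_add]
  map_update_smul' := by
    intro inst a i₀ r x
    let f : Fin (q + 1) → R := Fin.append (fun i => (a i).1) ![x.1]
    have hf : ∀ i, f i ∈ I := fun i => by
      refine Fin.addCases (fun j => ?_) (fun j => ?_) i
      · simp [f, (a j).2]
      · fin_cases j; simp [f, x.2]
    obtain ⟨u, hu⟩ := exists_frame h hI f hf m
    let c : Fin q → Fin (q + 1) → R := fun i => Pi.single (Fin.castAdd 1 i) 1
    let s : Fin (q + 1) → R := Pi.single (Fin.natAdd q (0 : Fin 1)) 1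
    have key : ∀ (v : Fin (q + 1) → R) (z : ↥I), functional f v = z.1 →
        ψ δ π I m (fun i => (Function.update a i₀ z i).1) =
          Submodule.Quotient.mk (u q (exteriorPower.ιMulti R q (Function.update c i₀ v))) := fun v z hv => by
      refine ψ_eq h hf hu _ fun i => ?_
      rcases eq_or_ne i i₀ with rfl | hne
      · rw [Function.update_self, Function.update_self, hv]
      · rw [Function.update_of_ne hne, Function.update_of_ne hne, functional_single]
        simp [f]
    have h0 : functional f s = x.1 := by rw [functional_single]; simp [f]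
    show ψ δ π I m _ = r • ψ δ π I m _
    rw [key (r • s) (r • x) (by rw [map_smul, h0]; rfl), key s x h0, AlternatingMap.map_update_smul, map_smul,
      Submodule.Quotient.mk_smul]
  map_eq_zero_of_eq' := by
    intro a i j hij hne
    have ha : ∀ i, (a i).1 ∈ I := fun i => (a i).2
    obtain ⟨u, hu⟩ := exists_frame h hI (fun i => (a i).1) ha m
    let c : Fin q → Fin q → R := fun k => Pi.single (if k = j then i else k) 1
    show ψ δ π I m _ = 0
    rw [ψ_eq h ha hu c (fun k => by
      rw [functional_single]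
      by_cases hk : k = j
      · rw [if_pos hk, hk, hij]
      · rw [if_neg hk]),
      AlternatingMap.map_eq_zero_of_eq _ c (by simp [c, hne]) hne, map_zero, Submodule.Quotient.mk_zero]

theorem ψAlt_apply (h : IsRes δ π) (hI : ∀ r ∈ I, ∀ x : N, r • x = 0) (q : ℕ) (m : N) (a : Fin q → ↥I) :
    ψAlt δ π I h hI q m a = ψ δ π I m fun i => (a i).1 := rfl

/-- Products in the square of the ideal vanish. -/
theorem ψ_mul_eq_zero (h : IsRes δ π) (hI : ∀ r ∈ I, ∀ x : N, r • x = 0) {q : ℕ} (m : N) (a : Fin q → R)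
    (ha : ∀ i, a i ∈ I) (i₀ : Fin q) {x y : R} (hx : x ∈ I) (hy : y ∈ I) (hxy : a i₀ = y * x) :
    ψ δ π I m a = 0 := by
  have hx' : ∀ i, Function.update a i₀ x i ∈ I := fun i => by
    rcases eq_or_ne i i₀ with rfl | hne
    · rwa [Function.update_self]
    · rw [Function.update_of_ne hne]; exact ha i
  obtain ⟨u, hu⟩ := exists_frame h hI _ hx' m
  let c : Fin q → Fin q → R := fun i => Pi.single i 1
  rw [ψ_eq h hx' hu (Function.update c i₀ (y • c i₀)) (fun i => by
      rcases eq_or_ne i i₀ with rfl | hne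
      · rw [Function.update_self, map_smul, functional_single, Function.update_self, smul_eq_mul, hxy]
      · rw [Function.update_of_ne hne, functional_single, Function.update_of_ne hne]),
    AlternatingMap.map_update_smul, Function.update_eq_self, map_smul, Submodule.Quotient.mk_eq_zero]
  exact Submodule.mem_sup_right (Submodule.smul_mem_smul hy Submodule.mem_top)

/-- Products are cycles modulo the ideal. -/
theorem wit_cycle {n : ℕ} {f : Fin n → R} (hf : ∀ i, f i ∈ I) {m : N}
    {u : ∀ p, K R n p →ₗ[R] P p} (hu : IsWit δ π f m u) (q : ℕ) (e : K R n (q + 1)) :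
    δ q (u (q + 1) e) ∈ I • (⊤ : Submodule R (P q)) := by
  rw [hu.2]
  have hle : (Ideal.span (Set.range f) • (⊤ : Submodule R (K R n q))).map (u q) ≤ I • (⊤ : Submodule R (P q)) := by
    rw [Submodule.map_smul'']
    refine Submodule.smul_mono ?_ le_top
    rw [Ideal.span_le]
    rintro _ ⟨i, rfl⟩
    exact hf i
  exact hle ⟨_, d_mem_smul f q e, rfl⟩

/-- The standard basis vectors of a sequence of indices. -/
noncomputable def stdVec {n p : ℕ} (s : Fin p → Fin n) : Fin p → Fin n → R := fun j => Pi.single (s j) 1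

theorem d_stdVec {n : ℕ} (f : Fin n → R) (p : ℕ) (s : Fin (p + 1) → Fin n) :
    d f p (exteriorPower.ιMulti R (p + 1) (stdVec s)) =
      ∑ i : Fin (p + 1), ((-1 : R) ^ (i : ℕ) * f (s i)) •
        exteriorPower.ιMulti R p (stdVec fun j => s (i.succAbove j)) := by
  have h : d f p (exteriorPower.ιMulti R (p + 1) (stdVec s)) = KoszSh.dGen (functional f) p (stdVec s) :=
    Subtype.ext (InjMod14.Kosz.D_ιMulti (functional f) p (stdVec s))
  rw [h, KoszSh.dGen]
  refine Finset.sum_congr rfl fun i _ => ?_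
  simp only [stdVec, functional_single]
  rfl

theorem wit_rel {n : ℕ} {f : Fin n → R} {m : N} {u : ∀ p, K R n p →ₗ[R] P p} (hu : IsWit δ π f m u) (p : ℕ)
    (s : Fin (p + 1) → Fin n) :
    δ p (u (p + 1) (exteriorPower.ιMulti R (p + 1) (stdVec s))) =
      ∑ i : Fin (p + 1), ((-1 : R) ^ (i : ℕ) * f (s i)) •
        u p (exteriorPower.ιMulti R p (stdVec fun j => s (i.succAbove j))) := by
  rw [hu.2, d_stdVec, map_sum]
  simp only [map_smul]

theorem e0_one (n : ℕ) (w : Fin 0 → Fin n → R) : exteriorPower.ιMulti R 0 w = e0 1 :=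
  Subtype.ext (by
    show ExteriorAlgebra.ιMulti R 0 w = algebraMap R _ 1
    rw [ExteriorAlgebra.ιMulti_zero_apply, map_one])

/-- A witness from its values on the standard basis. -/
theorem exists_wit_of_values {n : ℕ} (f : Fin n → R) (m : N) (v : ∀ p, (Fin p → Fin n) → P p)
    (h0 : ∀ s, π (v 0 s) = m)
    (hv : ∀ p (s : Fin (p + 1) → Fin n), StrictMono s →
      δ p (v (p + 1) s) = ∑ i : Fin (p + 1), ((-1 : R) ^ (i : ℕ) * f (s i)) • v p (fun j => s (i.succAbove j))) :
    ∃ u, IsWit δ π f m u ∧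
      ∀ p (s : Fin p → Fin n), StrictMono s → u p (exteriorPower.ιMulti R p (stdVec s)) = v p s := by
  let u : ∀ p, K R n p →ₗ[R] P p := fun p => ((Pi.basisFun R (Fin n)).exteriorPower p).constr ℕ fun S =>
    v p (Set.powersetCard.ofFinEmbEquiv.symm S)
  have hu : ∀ p (s : Fin p → Fin n), StrictMono s → u p (exteriorPower.ιMulti R p (stdVec s)) = v p s := by
    intro p s hs
    let e : Fin p ↪o Fin n := OrderEmbedding.ofStrictMono s hs
    have h1 : exteriorPower.ιMulti R p (stdVec s) =
        (Pi.basisFun R (Fin n)).exteriorPower p (Set.powersetCard.ofFinEmbEquiv e) := by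
      rw [exteriorPower.basis_apply, exteriorPower.ιMulti_family, Equiv.symm_apply_apply]
      exact congrArg _ (funext fun j => (Pi.basisFun_apply R (Fin n) (s j)).symm)
    rw [h1]
    exact (Module.Basis.constr_basis _ ℕ _ _).trans (by rw [Equiv.symm_apply_apply]; rfl)
  refine ⟨u, ⟨?_, fun p x => ?_⟩, hu⟩
  · rw [← e0_one n (stdVec (Fin.elim0 : Fin 0 → Fin n)), hu 0 _ (fun a => a.elim0), h0]
  · have h : δ p ∘ₗ u (p + 1) = u p ∘ₗ d f p := by
      refine ((Pi.basisFun R (Fin n)).exteriorPower (p + 1)).ext fun S => ?_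
      let e := Set.powersetCard.ofFinEmbEquiv.symm S
      have h1 : (Pi.basisFun R (Fin n)).exteriorPower (p + 1) S =
          exteriorPower.ιMulti R (p + 1) (stdVec e) := by
        rw [exteriorPower.basis_apply, exteriorPower.ιMulti_family]
        exact congrArg _ (funext fun j => Pi.basisFun_apply R (Fin n) (e j))
      rw [LinearMap.comp_apply, LinearMap.comp_apply, h1, hu _ _ e.strictMono, hv p e e.strictMono, d_stdVec, map_sum]
      refine Finset.sum_congr rfl fun i _ => ?_
      rw [map_smul, show u p (exteriorPower.ιMulti R p (stdVec fun j => e (i.succAbove j))) = _ from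
        hu p _ (e.strictMono.comp (Fin.strictMono_succAbove i))]
    exact LinearMap.congr_fun h x

/-! ### Bijectivity -/

theorem flat_prod (X Y : Type u) [AddCommGroup X] [Module R X] [AddCommGroup Y] [Module R Y]
    [Module.Flat R X] [Module.Flat R Y] : Module.Flat R (X × Y) := by
  rw [Module.Flat.iff_lTensor_preserves_injective_linearMap]
  intro N N' _ _ _ _ f hf
  have hc : (TensorProduct.prodLeft R R X Y N').toLinearMap ∘ₗ LinearMap.lTensor (X × Y) f =
      (LinearMap.prodMap (LinearMap.lTensor X f) (LinearMap.lTensor Y f)) ∘ₗ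
        (TensorProduct.prodLeft R R X Y N).toLinearMap := by
    refine TensorProduct.ext' fun xy n => ?_
    obtain ⟨x, y⟩ := xy
    simp
  intro a b h
  refine (TensorProduct.prodLeft R R X Y N).injective ?_
  refine (Function.Injective.prodMap (Module.Flat.lTensor_preserves_injective_linearMap f hf)
    (Module.Flat.lTensor_preserves_injective_linearMap f hf)) ?_
  exact (LinearMap.congr_fun hc a).symm.trans
    ((congrArg (TensorProduct.prodLeft R R X Y N') h).trans (LinearMap.congr_fun hc b))

/-- Purity of a submodule with flat quotient. -/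
theorem mem_smul_of_flat {A B : Type u} [AddCommGroup A] [Module R A] [AddCommGroup B] [Module R B]
    [Module.Flat R B] (g : A →ₗ[R] B) (hg : Function.Surjective g) (I : Ideal R) (x : LinearMap.ker g)
    (hx : x.1 ∈ I • (⊤ : Submodule R A)) : x ∈ I • (⊤ : Submodule R (LinearMap.ker g)) := by
  have hinj := LinearMap.lTensor_injective_of_exact_of_flat g hg _ (LinearMap.ker g).subtype_injective
    (LinearMap.exact_subtype_ker_map _) (R ⧸ I)
  have key : ∀ {M : Type u} [AddCommGroup M] [Module R M] (y : M),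
      y ∈ I • (⊤ : Submodule R M) ↔ (Ideal.Quotient.mk I 1) ⊗ₜ[R] y = 0 := fun {M} _ _ y => by
    rw [← (TensorProduct.quotTensorEquivQuotSMul M I).map_eq_zero_iff,
      show (Ideal.Quotient.mk I) (1 : R) = 1 from rfl, TensorProduct.quotTensorEquivQuotSMul_mk_one_tmul,
      Submodule.Quotient.mk_eq_zero]
  rw [key] at hx ⊢
  exact hinj (hx.trans (map_zero _).symm)

variable {A B D : Type u} [AddCommGroup A] [Module R A] [AddCommGroup B] [Module R B] [AddCommGroup D] [Module R D]

theorem flat_range_of_exact [Module.Flat R B] {g : A →ₗ[R] B} {h : B →ₗ[R] D} (hgh : Function.Exact g h)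
    [Module.Flat R (LinearMap.range h)] : Module.Flat R (LinearMap.range g) := by
  haveI : Module.Flat R (LinearMap.ker h.rangeRestrict) :=
    FlatCx12.TorDimBC.flat_kernel (LinearMap.ker h.rangeRestrict).subtype h.rangeRestrict
      (LinearMap.exact_subtype_ker_map _) h.surjective_rangeRestrict (LinearMap.ker h.rangeRestrict).subtype_injective
  exact Module.Flat.of_linearEquiv
    (LinearEquiv.ofEq _ _ (by rw [LinearMap.ker_rangeRestrict, hgh.linearMap_ker_eq] :
      LinearMap.range g = LinearMap.ker h.rangeRestrict))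

/-- One step of exactness modulo an ideal. -/
theorem mem_ker_sup {g : A →ₗ[R] B} {h : B →ₗ[R] D} (hgh : Function.Exact g h)
    [Module.Flat R (LinearMap.range h)] (I : Ideal R) (x : A) (hx : g x ∈ I • (⊤ : Submodule R B)) :
    x ∈ LinearMap.ker g ⊔ I • (⊤ : Submodule R A) := by
  let g' : A →ₗ[R] LinearMap.ker h.rangeRestrict := g.codRestrict _ fun a => by
    rw [LinearMap.ker_rangeRestrict]
    exact hgh.apply_apply_eq_zero a
  have hg' : Function.Surjective g' := fun y => by
    have hy : h y.1 = 0 := congrArg Subtype.val (LinearMap.mem_ker.1 y.2)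
    obtain ⟨a, ha⟩ := (hgh _).1 hy
    exact ⟨a, Subtype.ext ha⟩
  have hgx := mem_smul_of_flat h.rangeRestrict h.surjective_rangeRestrict I (g' x) hx
  obtain ⟨y, hy, he⟩ : g' x ∈ (I • (⊤ : Submodule R A)).map g' := by
    rw [Submodule.map_smul'', Submodule.map_top, LinearMap.range_eq_top.2 hg']
    exact hgx
  rw [← sub_add_cancel x y]
  refine Submodule.add_mem_sup ?_ hy
  rw [LinearMap.mem_ker, map_sub, sub_eq_zero]
  exact (congrArg Subtype.val he).symm

variable {C : ℕ → Type u} [∀ n, AddCommGroup (C n)] [∀ n, Module R (C n)] [∀ n, Module.Flat R (C n)]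
  {T : Type u} [AddCommGroup T] [Module R T] [Module.Flat R T]
  (ε : ∀ n, C (n + 1) →ₗ[R] C n) (α : C 0 →ₗ[R] T)

theorem flat_range (hex : ∀ n, Function.Exact (ε (n + 1)) (ε n)) (h0 : Function.Exact (ε 0) α)
    (hα : Function.Surjective α) : ∀ n, Module.Flat R (LinearMap.range (ε n))
  | 0 => by
    haveI : Module.Flat R (LinearMap.range α) := Module.Flat.of_linearEquiv (LinearEquiv.ofTop _ (LinearMap.range_eq_top.2 hα))
    exact flat_range_of_exact h0
  | n + 1 => by
    haveI := flat_range hex h0 hα n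
    exact flat_range_of_exact (hex n)

/-- An exact complex of flat modules stays exact modulo an ideal. -/
theorem mem_range_sup (hex : ∀ n, Function.Exact (ε (n + 1)) (ε n)) (h0 : Function.Exact (ε 0) α)
    (hα : Function.Surjective α) (I : Ideal R) :
    (∀ x : C 0, α x ∈ I • (⊤ : Submodule R T) → x ∈ LinearMap.range (ε 0) ⊔ I • (⊤ : Submodule R (C 0))) ∧
    ∀ (n : ℕ) (x : C (n + 1)), ε n x ∈ I • (⊤ : Submodule R (C n)) →
      x ∈ LinearMap.range (ε (n + 1)) ⊔ I • (⊤ : Submodule R (C (n + 1))) := by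
  refine ⟨fun x hx => ?_, fun n x hx => ?_⟩
  · rw [← LinearMap.range_eq_top.2 hα, LinearMap.range_eq_map, ← Submodule.map_smul''] at hx
    obtain ⟨y, hy, he⟩ := hx
    rw [← sub_add_cancel x y]
    exact Submodule.add_mem_sup ((h0 _).1 (by rw [map_sub, he, sub_self])) hy
  · rw [← (hex n).linearMap_ker_eq]
    cases n with
    | zero =>
      haveI : Module.Flat R (LinearMap.range α) :=
        Module.Flat.of_linearEquiv (LinearEquiv.ofTop _ (LinearMap.range_eq_top.2 hα))
      exact mem_ker_sup h0 I x hx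
    | succ n =>
      haveI := flat_range ε α hex h0 hα n
      exact mem_ker_sup (hex n) I x hx

theorem mem_smul_top_pi {ι : Type*} [Fintype ι] {M : Type u} [AddCommGroup M] [Module R M] (I : Ideal R)
    {x : ι → M} (hx : x ∈ I • (⊤ : Submodule R (ι → M))) (i : ι) : x i ∈ I • (⊤ : Submodule R M) := by
  have := Submodule.mem_map_of_mem (f := LinearMap.proj (R := R) (φ := fun _ : ι => M) i) hx
  rw [Submodule.map_smul''] at this
  exact Submodule.smul_mono le_rfl le_top this

theorem fst_mem_smul_top {A B : Type u} [AddCommGroup A] [Module R A] [AddCommGroup B] [Module R B] (I : Ideal R)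
    {x : A × B} (hx : x ∈ I • (⊤ : Submodule R (A × B))) :
    x.1 ∈ I • (⊤ : Submodule R A) ∧ x.2 ∈ I • (⊤ : Submodule R B) := by
  refine ⟨?_, ?_⟩
  · have := Submodule.mem_map_of_mem (f := LinearMap.fst R A B) hx
    rw [Submodule.map_smul''] at this
    exact Submodule.smul_mono le_rfl le_top this
  · have := Submodule.mem_map_of_mem (f := LinearMap.snd R A B) hx
    rw [Submodule.map_smul''] at this
    exact Submodule.smul_mono le_rfl le_top this

theorem pair_mem_smul_top {A B : Type u} [AddCommGroup A] [Module R A] [AddCommGroup B] [Module R B] (I : Ideal R)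
    {a : A} {b : B} (ha : a ∈ I • (⊤ : Submodule R A)) (hb : b ∈ I • (⊤ : Submodule R B)) :
    (a, b) ∈ I • (⊤ : Submodule R (A × B)) := by
  have h1 := Submodule.mem_map_of_mem (f := LinearMap.inl R A B) ha
  have h2 := Submodule.mem_map_of_mem (f := LinearMap.inr R A B) hb
  rw [Submodule.map_smul''] at h1 h2
  have := Submodule.add_mem _ (Submodule.smul_mono le_rfl le_top h1) (Submodule.smul_mono le_rfl le_top h2)
  simpa using this

theorem pi_mem_smul_top {ι : Type*} [Fintype ι] {M : Type u} [AddCommGroup M] [Module R M] (I : Ideal R)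
    {x : ι → M} (hx : ∀ i, x i ∈ I • (⊤ : Submodule R M)) : x ∈ I • (⊤ : Submodule R (ι → M)) := by
  classical
  rw [← Finset.univ_sum_single x]
  refine Submodule.sum_mem _ fun i _ => ?_
  have := Submodule.mem_map_of_mem (f := LinearMap.single R (fun _ : ι => M) i) (hx i)
  rw [Submodule.map_smul''] at this
  exact Submodule.smul_mono le_rfl le_top this

section Cone

variable {n r : ℕ} (δ) (f : Fin n → R) (u : Fin r → ∀ p, K R n p →ₗ[R] P p)

/-- The sum of a family of witnesses. -/
noncomputable def sumWit (p : ℕ) : (Fin r → K R n p) →ₗ[R] P p := ∑ k, u k p ∘ₗ LinearMap.proj k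

theorem sumWit_apply (p : ℕ) (e : Fin r → K R n p) : sumWit u p e = ∑ k, u k p (e k) := by
  simp [sumWit]

/-- The terms of the cone of a family of witnesses, in positive degrees. -/
abbrev Cone (n r : ℕ) (R : Type u) [CommRing R] (P : ℕ → Type u) (p : ℕ) : Type u := (Fin r → K R n p) × P (p + 1)

/-- The differential of the cone. -/
noncomputable def coneD (p : ℕ) : Cone n r R P (p + 1) →ₗ[R] Cone n r R P p :=
  (-((d f p).compLeft (Fin r)) ∘ₗ LinearMap.fst R _ _).prod ((sumWit u (p + 1)).coprod (δ (p + 1)))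

/-- The cone in degree zero. -/
noncomputable def coneA : Cone n r R P 0 →ₗ[R] P 0 := (sumWit u 0).coprod (δ 0)

end Cone

variable [∀ p, Module.Flat R (P p)]

/-- A Koszul regular frame computes the products. -/
theorem bijective_frame (h : IsRes δ π) (hI : ∀ t ∈ I, ∀ x : N, t • x = 0) {n r : ℕ} (f : Fin n → R)
    (hspan : Ideal.span (Set.range f) = I) (hK : CAlgH.KoszulRegular.KReg f) (m : Fin r → N)
    (hms : ∀ x : N, ∃ c : Fin r → R, ∑ k, c k • m k = x)
    (hmi : ∀ c : Fin r → R, ∑ k, c k • m k = 0 → ∀ k, c k ∈ I)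
    (u : Fin r → ∀ p, K R n p →ₗ[R] P p) (hu : ∀ k, IsWit δ π f (m k) (u k)) (q : ℕ) :
    (∀ z : P q, (∀ p (e : q = p + 1), δ p (e ▸ z) ∈ I • (⊤ : Submodule R (P p))) →
      ∃ e : Fin r → K R n q, z - ∑ k, u k q (e k) ∈ LinearMap.range (δ q) ⊔ I • (⊤ : Submodule R (P q))) ∧
    ∀ e : Fin r → K R n q, ∑ k, u k q (e k) ∈ LinearMap.range (δ q) ⊔ I • (⊤ : Submodule R (P q)) →
      ∀ k, e k ∈ I • (⊤ : Submodule R (K R n q)) := by
  have hU : ∀ p (e : Fin r → K R n (p + 1)), δ p (sumWit u (p + 1) e) = sumWit u p ((d f p).compLeft (Fin r) e) :=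
    fun p e => by
      rw [sumWit_apply, sumWit_apply, map_sum]
      exact Finset.sum_congr rfl fun k _ => (hu k).2 p (e k)
  have hU0 : ∀ c : Fin r → R, π (sumWit u 0 fun k => e0 (c k)) = ∑ k, c k • m k := fun c => by
    rw [sumWit_apply, map_sum]
    refine Finset.sum_congr rfl fun k _ => ?_
    rw [show (e0 (c k) : K R n 0) = c k • e0 1 by rw [← map_smul, smul_eq_mul, mul_one], map_smul, map_smul, (hu k).1]
  have hπI : ∀ y ∈ I • (⊤ : Submodule R (P 0)), π y = 0 := fun y hy => by
    refine Submodule.smul_induction_on hy (fun t ht z _ => by rw [map_smul, hI t ht]) (fun a b ha hb => ?_)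
    rw [map_add, ha, hb, add_zero]
  have hker : ∀ e : Fin r → K R n 0, π (sumWit u 0 e) = 0 → ∃ c : Fin r → R,
      (∀ k, c k ∈ I) ∧ e = fun k => e0 (c k) := fun e he => by
    choose c hc using fun k => e0_surjective (e k)
    have he' : e = fun k => e0 (c k) := funext fun k => (hc k).symm
    rw [he', hU0] at he
    exact ⟨c, hmi c he, he'⟩
  have hα : Function.Surjective (coneA δ u) := fun (z : P 0) => by
    obtain ⟨c, hc⟩ := hms (π z)
    obtain ⟨y, hy⟩ := (h.exact0 (z - sumWit u 0 fun k => e0 (c k))).1 (by rw [map_sub, hU0, hc, sub_self])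
    refine ⟨((fun k => e0 (c k)), y), ?_⟩
    show sumWit u 0 (fun k => e0 (c k)) + δ 0 y = z
    rw [hy, add_sub_cancel]
  have lift : ∀ (p : ℕ) (x : Cone n r R P p), δ p x.2 + sumWit u p x.1 = 0 →
      (∃ y : Fin r → K R n (p + 1), (d f p).compLeft (Fin r) y = x.1) → x ∈ LinearMap.range (coneD δ f u p) := by
    rintro p ⟨e, z⟩ hz ⟨y, hy⟩
    obtain ⟨z', hz'⟩ := (h.exact p _).1 (show δ p (z + sumWit u (p + 1) y) = 0 by rw [map_add, hU, hy]; exact hz)
    refine ⟨(-y, z'), ?_⟩
    show ((-((d f p).compLeft (Fin r) (-y))), sumWit u (p + 1) (-y) + δ (p + 1) z') = (e, z)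
    rw [map_neg, neg_neg, hy, map_neg, hz']
    congr 1
    abel
  have h0 : Function.Exact (coneD δ f u 0) (coneA δ u) := by
    refine fun x => ⟨fun hx => ?_, ?_⟩
    · have hx' : sumWit u 0 x.1 + δ 0 x.2 = 0 := hx
      obtain ⟨c, hc, he⟩ := hker x.1 (by
        have := congrArg π hx'
        rwa [map_add, h.exact0.apply_apply_eq_zero, add_zero, map_zero] at this)
      have hc' : ∀ k, (e0 (c k) : K R n 0) ∈ LinearMap.range (d f 0) := fun k => by
        rw [range_d_zero]
        exact ⟨c k, hspan.ge (hc k), rfl⟩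
      choose y hy using hc'
      exact lift 0 x ((add_comm _ _).trans hx') ⟨y, by rw [he]; exact funext hy⟩
    · rintro ⟨y, rfl⟩
      show sumWit u 0 (-((d f 0).compLeft (Fin r) y.1)) + δ 0 (sumWit u 1 y.1 + δ 1 y.2) = 0
      rw [map_neg, map_add, hU, (h.exact 0).apply_apply_eq_zero, add_zero, neg_add_cancel]
  have hex : ∀ p, Function.Exact (coneD δ f u (p + 1)) (coneD δ f u p) := by
    refine fun p x => ⟨fun hx => ?_, ?_⟩
    · have hx1 : -((d f p).compLeft (Fin r) x.1) = 0 := congrArg Prod.fst hx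
      have hx2 : sumWit u (p + 1) x.1 + δ (p + 1) x.2 = 0 := congrArg Prod.snd hx
      have hz : ∀ k, ∃ y, d f (p + 1) y = x.1 k := fun k => (hK p (x.1 k)).1 (congrFun (neg_eq_zero.1 hx1) k)
      choose y hy using hz
      exact lift (p + 1) x ((add_comm _ _).trans hx2) ⟨y, funext hy⟩
    · rintro ⟨y, rfl⟩
      show ((-((d f p).compLeft (Fin r) (-((d f (p + 1)).compLeft (Fin r) y.1)))),
        sumWit u (p + 1) (-((d f (p + 1)).compLeft (Fin r) y.1)) +
          δ (p + 1) (sumWit u (p + 1 + 1) y.1 + δ (p + 1 + 1) y.2)) = 0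
      refine Prod.ext ?_ ?_
      · rw [map_neg, neg_neg]
        funext k
        exact LinearMap.congr_fun (d_d f p) (y.1 k)
      · show sumWit u (p + 1) _ + _ = 0
        rw [map_neg, map_add, hU, (h.exact (p + 1)).apply_apply_eq_zero, add_zero, neg_add_cancel]
  haveI : ∀ p, Module.Flat R (Cone n r R P p) := fun p => by
    haveI : Module.Flat R (Fin r → K R n p) := Module.Flat.of_free
    exact flat_prod _ _
  have hmem := mem_range_sup (coneD δ f u) (coneA δ u) hex h0 hα I
  constructor
  · intro z hz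
    cases q with
    | zero =>
      obtain ⟨⟨e, y⟩, hy⟩ := hα z
      refine ⟨e, Submodule.mem_sup_left ⟨y, ?_⟩⟩
      rw [← sumWit_apply, eq_sub_iff_add_eq']
      exact hy
    | succ p =>
      have hx : ((0 : Fin r → K R n p), z) ∈ LinearMap.range (coneD δ f u p) ⊔
          I • (⊤ : Submodule R (Cone n r R P p)) := by
        cases p with
        | zero =>
          refine hmem.1 _ ?_
          show sumWit u 0 0 + δ 0 z ∈ _
          rw [map_zero, zero_add]
          exact hz 0 rfl
        | succ p =>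
          refine hmem.2 p _ ?_
          show (-((d f p).compLeft (Fin r) 0), sumWit u (p + 1) 0 + δ (p + 1) z) ∈ I • (⊤ : Submodule R (Cone n r R P p))
          rw [map_zero, neg_zero, map_zero, zero_add]
          exact pair_mem_smul_top I (Submodule.zero_mem _) (hz (p + 1) rfl)
      obtain ⟨_, ⟨⟨e, y⟩, rfl⟩, v, hv, heq⟩ := Submodule.mem_sup.1 hx
      refine ⟨e, ?_⟩
      have h2 : sumWit u (p + 1) e + δ (p + 1) y + v.2 = z := congrArg Prod.snd heq
      have h3 : z - ∑ k, u k (p + 1) (e k) = δ (p + 1) y + v.2 := by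
        rw [← sumWit_apply, sub_eq_iff_eq_add, ← h2]
        abel
      rw [h3]
      exact Submodule.add_mem_sup ⟨y, rfl⟩ (fst_mem_smul_top I hv).2
  · intro e he k
    rw [← sumWit_apply] at he
    obtain ⟨_, ⟨y, rfl⟩, v, hv, heq⟩ := Submodule.mem_sup.1 he
    cases q with
    | zero =>
      obtain ⟨c, hc, rfl⟩ := hker e (by rw [← heq, map_add, h.exact0.apply_apply_eq_zero, hπI v hv, add_zero])
      show (e0 (c k) : K R n 0) ∈ _
      rw [show (e0 (c k) : K R n 0) = c k • e0 1 by rw [← map_smul, smul_eq_mul, mul_one]]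
      exact Submodule.smul_mem_smul (hc k) Submodule.mem_top
    | succ p =>
      have hx : coneD δ f u p (e, -y) ∈ I • (⊤ : Submodule R (Cone n r R P p)) := by
        show (-((d f p).compLeft (Fin r) e), sumWit u (p + 1) e + δ (p + 1) (-y)) ∈
          I • (⊤ : Submodule R ((Fin r → K R n p) × P (p + 1)))
        refine pair_mem_smul_top I (Submodule.neg_mem _ (pi_mem_smul_top I fun k => ?_)) ?_
        · rw [← hspan]
          exact d_mem_smul f p (e k)
        · rw [← heq, map_neg, add_comm (δ (p + 1) y) v, add_assoc, add_neg_cancel, add_zero]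
          exact hv
      obtain ⟨_, ⟨⟨w, y'⟩, rfl⟩, v', hv', heq'⟩ := Submodule.mem_sup.1 (hmem.2 p _ hx)
      have h1 : -((d f (p + 1)).compLeft (Fin r) w) k + v'.1 k = e k := congrFun (congrArg Prod.fst heq') k
      rw [← h1]
      refine Submodule.add_mem _ (Submodule.neg_mem _ ?_) (mem_smul_top_pi I (fst_mem_smul_top I hv').1 k)
      rw [← hspan]
      exact d_mem_smul f (p + 1) (w k)

end Groth.Agent.KTor28.Ring
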