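import Groth.Agent.KTor28.Stalk
import Groth.Agent.FundLocal.Main
import Groth.Agent.Coherent.TensorSections
import Groth.Agent.InjMod14.Kosz.AffineHom
import Groth.Agent.EGA43.InjFibre.Scheme
import Groth.Agent.Hyper5.QCohExt
import Groth.Agent.Omega15.UnivConormal
import Groth.Agent.CAlgH3.LocFreeFactor
import Mathlib.CategoryTheory.Adjunction.FullyFaithful

/-!
# The product morphism `M ⊗ ⋀^q C → coker(i^* A_{q+1} → i^* A_q)` and its image
-/

set_option autoImplicit false
set_option linter.unusedSectionVars false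
set_option linter.style.haveILetI false
set_option backward.isDefEq.respectTransparency false
set_option backward.isDefEq.respectTransparency.types false
set_option maxHeartbeats 2000000

universe u

open CategoryTheory CategoryTheory.Limits AlgebraicGeometry Opposite TopologicalSpace
open Groth.Agent Groth.Agent.ModStalk Groth.Agent.Coherent Groth.Agent.PicLib Groth.Agent.AmpleLib
open Groth.Agent.FundLocal (idl cls lGen idlSec)
open Groth.Agent.Disc12.Koszul (K e0 top)

namespace Groth.Agent.KTor28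

variable {X Y : Scheme.{u}} (i : Y ⟶ X) [IsClosedImmersion i]

theorem isQCoh_idealMod' : Coh.IsQCoh (ClSub.idealMod i.ker) := MorProj.isQCoh_idealMod i.ker

theorem cls_add {W : X.Opens} (hW : IsAffineOpen W) (a b : idl i W) : cls i hW (a + b) = cls i hW a + cls i hW b := by
  have h : idlSec i hW (a + b) = idlSec i hW a + idlSec i hW b := FundLocal.idlSec_eq i hW _ _ (by
    rw [show OmegaSh.idealSect i.ker W (idlSec i hW a + idlSec i hW b) =
      OmegaSh.idealSect i.ker W (idlSec i hW a) + OmegaSh.idealSect i.ker W (idlSec i hW b) from map_add _ _ _,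
      FundLocal.idealSect_idlSec, FundLocal.idealSect_idlSec]
    rfl)
  show pullSec i (idlSec i hW (a + b)) = _
  rw [h]
  exact map_add (((Scheme.Modules.pullbackPushforwardAdjunction i).unit.app _).app W).hom _ _

theorem cls_smul {W : X.Opens} (hW : IsAffineOpen W) (r : Γ(X, W)) (a : idl i W) :
    cls i hW (r • a) = i.app W r • cls i hW a := by
  have h : idlSec i hW (r • a) = r • idlSec i hW a := FundLocal.idlSec_eq i hW _ _ (by
    rw [FundLocal.idealSect_smul, FundLocal.idealSect_idlSec]
    rfl)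
  show pullSec i (idlSec i hW (r • a)) = _
  rw [h]
  exact pullSec_smul i r _

theorem idlSec_surjective {W : X.Opens} (hW : IsAffineOpen W) : Function.Surjective (idlSec i hW) := fun s => by
  have h := OmegaLib.idealSect_mem i.ker hW s
  rw [Scheme.Hom.ker_apply] at h
  exact ⟨⟨OmegaSh.idealSect i.ker W s, h⟩, FundLocal.idlSec_eq i hW _ s rfl⟩

theorem cls_surjective {W : X.Opens} (hW : IsAffineOpen W) :
    Function.Surjective (fun a => (show Γ(Omega.conormal i, i ⁻¹ᵁ W) from cls i hW a)) := fun c => by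
  haveI := isQCoh_idealMod' i
  obtain ⟨s, hs⟩ := (FundLocal.pullSec_affine i (F := ClSub.idealMod i.ker) hW).1 c
  obtain ⟨a, rfl⟩ := idlSec_surjective i hW s
  exact ⟨a, hs⟩

theorem mem_mul_of_cls_eq {W : X.Opens} (hW : IsAffineOpen W) {a b : idl i W} (h : cls i hW a = cls i hW b) :
    a.1 - b.1 ∈ idl i W * idl i W := by
  haveI := isQCoh_idealMod' i
  have h0 : pullSec i (idlSec i hW (a - b)) = 0 := by
    have := cls_add i hW (a - b) b
    rw [sub_add_cancel, h] at this
    exact left_eq_add.1 (this.trans (add_comm _ _))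
  have hm := (FundLocal.pullSec_affine i (F := ClSub.idealMod i.ker) hW).2 _ h0
  suffices hh : ∀ s, s ∈ idl i W • (⊤ : Submodule Γ(X, W) Γ(ClSub.idealMod i.ker, W)) →
      OmegaSh.idealSect i.ker W s ∈ idl i W * idl i W by
    have := hh _ hm
    rwa [FundLocal.idealSect_idlSec] at this
  intro s hs
  refine Submodule.smul_induction_on hs (fun r hr t _ => ?_) (fun s t hs ht => ?_)
  · rw [FundLocal.idealSect_smul]
    refine Ideal.mul_mem_mul hr ?_
    have := OmegaLib.idealSect_mem i.ker hW t
    rwa [Scheme.Hom.ker_apply] at this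
  · rw [show OmegaSh.idealSect i.ker W (s + t) = OmegaSh.idealSect i.ker W s + OmegaSh.idealSect i.ker W t from
      map_add _ _ _]
    exact Ideal.add_mem _ hs ht

theorem app_surjective {W : X.Opens} (hW : IsAffineOpen W) : Function.Surjective (i.app W) :=
  i.app_surjective W hW

/-- The stalk germ of a section of the ideal. -/
noncomputable def germI {W : X.Opens} {y : Y} (hy : i.base y ∈ W) (a : idl i W) : ↥(IX i y) :=
  ⟨X.presheaf.germ W (i.base y) hy a.1, germ_mem_IX i hy a.2⟩

theorem germI_add {W : X.Opens} {y : Y} (hy : i.base y ∈ W) (a b : idl i W) :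
    germI i hy (a + b) = germI i hy a + germI i hy b :=
  Subtype.ext (map_add (X.presheaf.germ W (i.base y) hy).hom a.1 b.1)

theorem germI_smul {W : X.Opens} {y : Y} (hy : i.base y ∈ W) (r : Γ(X, W)) (a : idl i W) :
    germI i hy (r • a) = X.presheaf.germ W (i.base y) hy r • germI i hy a :=
  Subtype.ext (map_mul (X.presheaf.germ W (i.base y) hy).hom r a.1)

theorem germI_mem_mul {W : X.Opens} {y : Y} (hy : i.base y ∈ W) {a b : idl i W}
    (h : a.1 - b.1 ∈ idl i W * idl i W) : (germI i hy a).1 - (germI i hy b).1 ∈ IX i y * IX i y := by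
  have h1 := Ideal.mem_map_of_mem (X.presheaf.germ W (i.base y) hy).hom h
  rw [Ideal.map_mul, map_sub] at h1
  refine Ideal.mul_mono ?_ ?_ h1 <;>
    exact Ideal.map_le_iff_le_comap.2 fun c hc => germ_mem_IX i hy hc

variable {A : ℕ → X.Modules} (dA : ∀ n, A (n + 1) ⟶ A n) {M : Y.Modules}
  (α : A 0 ⟶ (Scheme.Modules.pushforward i).obj M)
  (hres : ∀ y, Ring.IsRes (P := fun n => ↥(st (i.base y) (A n))) (dst dA (i.base y)) (ast α (i.base y)))

theorem kills (y : Y) : ∀ r ∈ IX i y, ∀ t : st (i.base y) ((Scheme.Modules.pushforward i).obj M), r • t = 0 :=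
  fun r hr t => DCat.ClosedPush.smul_stalk_push i M y r hr t

include hres

/-- The product of a section and sections of the ideal. -/
noncomputable def psi {q : ℕ} {W : X.Opens} (m : Γ(M, i ⁻¹ᵁ W)) (a : Fin q → idl i W) :
    Γ(Oq i dA q, i ⁻¹ᵁ W) :=
  (exists_psiSec i dA α hres (kills i) (show Γ((Scheme.Modules.pushforward i).obj M, W) from m) (fun j => (a j).1)
    (fun j => (a j).2)).choose

theorem gm_psi {q : ℕ} {W : X.Opens} (m : Γ(M, i ⁻¹ᵁ W)) (a : Fin q → idl i W) (y : Y) (hy : y ∈ i ⁻¹ᵁ W) :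
    gm (Oq i dA q) hy (psi i dA α hres m a) =
      theta i dA y q (Ring.ψAlt (P := fun n => ↥(st (i.base y) (A n))) (dst dA (i.base y)) (ast α (i.base y)) (IX i y)
        (hres y) (kills i y) q (gm ((Scheme.Modules.pushforward i).obj M) (U := W) hy m) (fun j => germI i hy (a j))) :=
  (exists_psiSec i dA α hres (kills i) (show Γ((Scheme.Modules.pushforward i).obj M, W) from m) (fun j => (a j).1)
    (fun j => (a j).2)).choose_spec ⟨y, hy⟩

theorem psi_add_left {q : ℕ} {W : X.Opens} (m m' : Γ(M, i ⁻¹ᵁ W)) (a : Fin q → idl i W) :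
    psi i dA α hres (m + m') a = psi i dA α hres m a + psi i dA α hres m' a := by
  refine gm_ext _ fun y hy => ?_
  rw [gm_add, gm_psi, gm_psi, gm_psi, ← theta_add]
  refine congrArg _ ?_
  rw [Ring.ψAlt_apply, Ring.ψAlt_apply, Ring.ψAlt_apply, ← Ring.ψ_add_left (hres y) (kills i y) _ _ _
    (fun j => (germI i hy (a j)).2)]
  exact congrArg (fun t => Ring.ψ (P := fun n => ↥(st (i.base y) (A n))) _ _ _ t _)
    (gm_add ((Scheme.Modules.pushforward i).obj M) (U := W) hy m m')

theorem psi_smul_left {q : ℕ} {W : X.Opens} (r : Γ(X, W)) (m : Γ(M, i ⁻¹ᵁ W)) (a : Fin q → idl i W) :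
    psi i dA α hres (i.app W r • m) a = i.app W r • psi i dA α hres m a := by
  refine gm_ext _ fun y hy => ?_
  rw [gm_smul, gm_psi, gm_psi]
  have h1 : gm ((Scheme.Modules.pushforward i).obj M) (U := W) hy (i.app W r • m) =
      X.presheaf.germ W (i.base y) hy r • gm ((Scheme.Modules.pushforward i).obj M) (U := W) hy m :=
    gm_smul ((Scheme.Modules.pushforward i).obj M) (U := W) hy r m
  rw [h1, Ring.ψAlt_apply, Ring.ψ_smul_left (hres y) (kills i y) _ _ _ (fun j => (germI i hy (a j)).2), theta_smul,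
    Scheme.Hom.germ_stalkMap_apply, Ring.ψAlt_apply]

theorem psi_update_add {q : ℕ} {W : X.Opens} (m : Γ(M, i ⁻¹ᵁ W)) (a : Fin q → idl i W) (j : Fin q)
    (x y : idl i W) : psi i dA α hres m (Function.update a j (x + y)) =
      psi i dA α hres m (Function.update a j x) + psi i dA α hres m (Function.update a j y) := by
  refine gm_ext _ fun w hw => ?_
  rw [gm_add, gm_psi, gm_psi, gm_psi, ← theta_add]
  refine congrArg _ ?_
  have h : ∀ z : idl i W, (fun k => germI i hw (Function.update a j z k)) =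
      Function.update (fun k => germI i hw (a k)) j (germI i hw z) := fun z =>
    funext fun k => Function.apply_update (fun _ => germI i hw) a j z k
  rw [h, h, h, germI_add, AlternatingMap.map_update_add]

theorem psi_update_smul {q : ℕ} {W : X.Opens} (m : Γ(M, i ⁻¹ᵁ W)) (a : Fin q → idl i W) (j : Fin q)
    (r : Γ(X, W)) (x : idl i W) : psi i dA α hres m (Function.update a j (r • x)) =
      i.app W r • psi i dA α hres m (Function.update a j x) := by
  refine gm_ext _ fun w hw => ?_
  rw [gm_smul, gm_psi, gm_psi]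
  have h : ∀ z : idl i W, (fun k => germI i hw (Function.update a j z k)) =
      Function.update (fun k => germI i hw (a k)) j (germI i hw z) := fun z =>
    funext fun k => Function.apply_update (fun _ => germI i hw) a j z k
  rw [h, h, germI_smul, AlternatingMap.map_update_smul, theta_smul, Scheme.Hom.germ_stalkMap_apply]

theorem psi_eq_zero_of_eq {q : ℕ} {W : X.Opens} (m : Γ(M, i ⁻¹ᵁ W)) (a : Fin q → idl i W) {j k : Fin q}
    (h : a j = a k) (hne : j ≠ k) : psi i dA α hres m a = 0 := by
  refine gm_ext _ fun w hw => ?_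
  rw [gm_zero, gm_psi, AlternatingMap.map_eq_zero_of_eq _ (fun l => germI i hw (a l))
    (show germI i hw (a j) = germI i hw (a k) by rw [h]) hne, theta_zero]

theorem psi_congr {q : ℕ} {W : X.Opens} (hW : IsAffineOpen W) (m : Γ(M, i ⁻¹ᵁ W)) (a b : Fin q → idl i W)
    (h : ∀ j, cls i hW (a j) = cls i hW (b j)) : psi i dA α hres m a = psi i dA α hres m b := by
  refine gm_ext _ fun w hw => ?_
  rw [gm_psi, gm_psi]
  refine congrArg _ ?_
  let F := Ring.ψAlt (P := fun n => ↥(st (i.base w) (A n))) (dst dA (i.base w)) (ast α (i.base w)) (IX i w)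
    (hres w) (kills i w) q (gm ((Scheme.Modules.pushforward i).obj M) (U := W) hw m)
  have hsq : ∀ (v : Fin q → ↥(IX i w)) (j : Fin q) (z z' : ↥(IX i w)), z.1 - z'.1 ∈ IX i w * IX i w →
      F (Function.update v j z) = F (Function.update v j z') := fun v j z z' hz => by
    suffices hh : ∀ t : X.presheaf.stalk (i.base w), t ∈ IX i w * IX i w → ∀ ht : t ∈ IX i w,
        F (Function.update v j ⟨t, ht⟩) = 0 by
      rw [← sub_eq_zero, ← AlternatingMap.map_update_sub]
      exact hh _ hz (z - z').2
    intro t ht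
    refine Submodule.mul_induction_on' (C := fun t _ => ∀ ht : t ∈ IX i w, F (Function.update v j ⟨t, ht⟩) = 0)
      (fun x hx y hy ht => ?_) (fun s hs s' hs' h h' ht => ?_) ht
    · exact Ring.ψ_mul_eq_zero (hres w) (kills i w) _ _ (fun l => (Function.update v j ⟨x * y, ht⟩ l).2) j hy hx
        (by simp only [Function.update_self])
    · have h1 := Ideal.mul_le_left hs
      have h2 := Ideal.mul_le_left hs'
      rw [show (⟨s + s', ht⟩ : ↥(IX i w)) = ⟨s, h1⟩ + ⟨s', h2⟩ from rfl, AlternatingMap.map_update_add, h h1,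
        h' h2, add_zero]
  classical
  suffices hS : ∀ S : Finset (Fin q), F (fun l => if l ∈ S then germI i hw (b l) else germI i hw (a l)) =
      F (fun l => germI i hw (a l)) by
    have := hS Finset.univ
    simp only [Finset.mem_univ, if_true] at this
    exact this.symm
  intro S
  induction S using Finset.induction with
  | empty => simp
  | insert j S hj ih =>
    rw [← ih]
    let v : Fin q → ↥(IX i w) := fun l => if l ∈ S then germI i hw (b l) else germI i hw (a l)
    have e1 : (fun l => if l ∈ insert j S then germI i hw (b l) else germI i hw (a l)) =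
        Function.update v j (germI i hw (b j)) := funext fun l => by
      rcases eq_or_ne l j with rfl | hne
      · simp
      · simp [v, hne]
    have e2 : v = Function.update v j (germI i hw (a j)) := funext fun l => by
      rcases eq_or_ne l j with rfl | hne
      · simp [v, hj]
      · simp [hne]
    rw [e1]
    refine (hsq v j _ _ ?_).trans (congrArg F e2).symm
    exact germI_mem_mul i hw (mem_mul_of_cls_eq i hW (h j).symm)

theorem psi_res {q : ℕ} {W W' : X.Opens} (hle : W' ≤ W) (m : Γ(M, i ⁻¹ᵁ W)) (a : Fin q → idl i W) :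
    resM (Oq i dA q) ((Opens.map i.base).map (homOfLE hle)).le (psi i dA α hres m a) =
      psi i dA α hres (resM M ((Opens.map i.base).map (homOfLE hle)).le m)
        (fun j => ⟨X.presheaf.map (homOfLE hle).op (a j).1, FundLocal.res_mem_idl i hle (a j).2⟩) := by
  refine gm_ext _ fun w hw => ?_
  rw [gm_res, gm_psi, gm_psi]
  refine congrArg _ (congrArg₂ (fun t (v : Fin q → ↥(IX i w)) =>
    Ring.ψAlt (P := fun n => ↥(st (i.base w) (A n))) _ _ _ (hres w) (kills i w) q t v) ?_
      (funext fun j => Subtype.ext ?_))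
  · exact (gm_res ((Scheme.Modules.pushforward i).obj M) hle (x := i.base w) hw m).symm
  · exact (X.presheaf.germ_res_apply (homOfLE hle) _ hw (a j).1).symm

/-- The product, alternating in conormal classes. -/
noncomputable def psiAlt (q : ℕ) {W : X.Opens} (hW : IsAffineOpen W) (m : Γ(M, i ⁻¹ᵁ W)) :
    Γ(Omega.conormal i, i ⁻¹ᵁ W) [⋀^Fin q]→ₗ[Γ(Y, i ⁻¹ᵁ W)] Γ(Oq i dA q, i ⁻¹ᵁ W) where
  toFun e := psi i dA α hres m fun j => Function.surjInv (cls_surjective i hW) (e j)
  map_update_add' := by
    intro inst e j x y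
    obtain rfl : inst = instDecidableEqFin q := Subsingleton.elim _ _
    let s := Function.surjInv (cls_surjective i hW)
    have hs : ∀ c, cls i hW (s c) = c := Function.surjInv_eq (cls_surjective i hW)
    show psi i dA α hres m _ = psi i dA α hres m _ + psi i dA α hres m _
    have h : ∀ z, psi i dA α hres m (fun k => s (Function.update e j z k)) =
        psi i dA α hres m (Function.update (fun k => s (e k)) j (s z)) := fun z =>
      congrArg _ (funext fun k => Function.apply_update (fun _ => s) e j z k)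
    rw [h, h, h, ← psi_update_add]
    refine psi_congr i dA α hres hW m _ _ fun k => ?_
    rcases eq_or_ne k j with rfl | hne
    · rw [Function.update_self, Function.update_self, cls_add, hs, hs, hs]
    · rw [Function.update_of_ne hne, Function.update_of_ne hne]
  map_update_smul' := by
    intro inst e j c x
    obtain rfl : inst = instDecidableEqFin q := Subsingleton.elim _ _
    let s := Function.surjInv (cls_surjective i hW)
    have hs : ∀ c, cls i hW (s c) = c := Function.surjInv_eq (cls_surjective i hW)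
    obtain ⟨r, rfl⟩ := app_surjective i hW c
    show psi i dA α hres m _ = i.app W r • psi i dA α hres m _
    have h : ∀ z, psi i dA α hres m (fun k => s (Function.update e j z k)) =
        psi i dA α hres m (Function.update (fun k => s (e k)) j (s z)) := fun z =>
      congrArg _ (funext fun k => Function.apply_update (fun _ => s) e j z k)
    rw [h, h, ← psi_update_smul]
    refine psi_congr i dA α hres hW m _ _ fun k => ?_
    rcases eq_or_ne k j with rfl | hne
    · rw [Function.update_self, Function.update_self, cls_smul, hs, hs]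
    · rw [Function.update_of_ne hne, Function.update_of_ne hne]
  map_eq_zero_of_eq' := fun e j k h hne => psi_eq_zero_of_eq i dA α hres m _ (congrArg _ h) hne

theorem psiAlt_cls (q : ℕ) {W : X.Opens} (hW : IsAffineOpen W) (m : Γ(M, i ⁻¹ᵁ W)) (a : Fin q → idl i W) :
    psiAlt i dA α hres q hW m (fun j => (show Γ(Omega.conormal i, i ⁻¹ᵁ W) from cls i hW (a j))) =
      psi i dA α hres m a :=
  psi_congr i dA α hres hW m _ _ fun _ => Function.surjInv_eq (cls_surjective i hW) _

variable {q : ℕ} {L : Y.Modules}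
  (φ : ∀ U : Y.affineOpens, (L.val.obj (op U.1)) ≃ₗ[Γ(Y, U.1)]
    ↥(⋀[Γ(Y, U.1)]^q ((Omega.conormal i).val.obj (op U.1))))
  (hφ : ∀ (U V : Y.affineOpens) (h : V.1 ≤ U.1) (e : Fin q → (Omega.conormal i).val.obj (op U.1)),
      L.val.map (homOfLE h).op ((φ U).symm (exteriorPower.ιMulti _ q e)) =
        (φ V).symm (exteriorPower.ιMulti _ q (fun j => (Omega.conormal i).val.map (homOfLE h).op (e j))))
  [Coh.IsQCoh M] [Coh.IsQCoh L]

/-- The product as a linear map on exterior powers. -/
noncomputable def psiExt {W : X.Opens} (hW : IsAffineOpen W) (m : Γ(M, i ⁻¹ᵁ W)) :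
    Γ(L, i ⁻¹ᵁ W) →ₗ[Γ(Y, i ⁻¹ᵁ W)] Γ(Oq i dA q, i ⁻¹ᵁ W) :=
  exteriorPower.alternatingMapLinearEquiv (psiAlt i dA α hres q hW m) ∘ₗ (φ ⟨i ⁻¹ᵁ W, hW.preimage i⟩).toLinearMap

theorem psiExt_lGen {W : X.Opens} (hW : IsAffineOpen W) (m : Γ(M, i ⁻¹ᵁ W)) (a : Fin q → idl i W) :
    psiExt i dA α hres φ hW m (lGen i φ hW a) = psi i dA α hres m a := by
  show exteriorPower.alternatingMapLinearEquiv (psiAlt i dA α hres q hW m)
    ((φ ⟨i ⁻¹ᵁ W, hW.preimage i⟩) ((φ ⟨i ⁻¹ᵁ W, hW.preimage i⟩).symm _)) = _
  rw [LinearEquiv.apply_symm_apply]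
  exact (exteriorPower.alternatingMapLinearEquiv_apply_ιMulti _ _).trans (psiAlt_cls i dA α hres q hW m a)

omit hres in
theorem span_lGen {W : X.Opens} (hW : IsAffineOpen W) :
    Submodule.span Γ(Y, i ⁻¹ᵁ W) (Set.range fun a : Fin q → idl i W => lGen i φ hW a) = ⊤ := by
  have h := exteriorPower.ιMulti_span Γ(Y, i ⁻¹ᵁ W) q ((Omega.conormal i).val.obj (op (i ⁻¹ᵁ W)))
  have h2 := congrArg (Submodule.map (φ ⟨i ⁻¹ᵁ W, hW.preimage i⟩).symm.toLinearMap) h
  rw [Submodule.map_top, LinearEquiv.range, Submodule.map_span, ← Set.range_comp] at h2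
  refine eq_top_iff.2 (h2.symm.le.trans (Submodule.span_le.2 ?_))
  rintro _ ⟨e, rfl⟩
  choose a ha using fun j => cls_surjective i hW (e j)
  exact Submodule.subset_span ⟨a, congrArg (fun t => (φ ⟨i ⁻¹ᵁ W, hW.preimage i⟩).symm
    (exteriorPower.ιMulti Γ(Y, i ⁻¹ᵁ W) q t)) (funext ha)⟩

/-- The product as a bilinear map. -/
noncomputable def psiBil {W : X.Opens} (hW : IsAffineOpen W) :
    Γ(M, i ⁻¹ᵁ W) →ₗ[Γ(Y, i ⁻¹ᵁ W)] Γ(L, i ⁻¹ᵁ W) →ₗ[Γ(Y, i ⁻¹ᵁ W)] Γ(Oq i dA q, i ⁻¹ᵁ W) where
  toFun m := psiExt i dA α hres φ hW m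
  map_add' m m' := by
    refine LinearMap.ext_on_range (span_lGen i φ hW) fun a => ?_
    rw [LinearMap.add_apply, psiExt_lGen, psiExt_lGen, psiExt_lGen, psi_add_left]
  map_smul' c m := by
    obtain ⟨r, rfl⟩ := app_surjective i hW c
    refine LinearMap.ext_on_range (span_lGen i φ hW) fun a => ?_
    rw [LinearMap.smul_apply, psiExt_lGen, psiExt_lGen, psi_smul_left]
    rfl

/-- The product on sections of the tensor product over an affine open. -/
noncomputable def prodMap {W : X.Opens} (hW : IsAffineOpen W) :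
    Γ(CohB1.tensorMod M L, i ⁻¹ᵁ W) →ₗ[Γ(Y, i ⁻¹ᵁ W)] Γ(Oq i dA q, i ⁻¹ᵁ W) :=
  TensorProduct.lift (psiBil i dA α hres φ hW) ∘ₗ
    (LinearEquiv.ofBijective (tmulMap M L (i ⁻¹ᵁ W)) (bijective_tmulMap (hW.preimage i) M L)).symm.toLinearMap

theorem prodMap_tmul {W : X.Opens} (hW : IsAffineOpen W) (m : Γ(M, i ⁻¹ᵁ W)) (a : Fin q → idl i W) :
    prodMap i dA α hres φ hW (tmul m (lGen i φ hW a)) = psi i dA α hres m a := by
  let e := LinearEquiv.ofBijective (tmulMap M L (i ⁻¹ᵁ W)) (bijective_tmulMap (hW.preimage i) M L)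
  show TensorProduct.lift (psiBil i dA α hres φ hW) (e.symm (tmul m (lGen i φ hW a))) = _
  rw [show e.symm (tmul m (lGen i φ hW a)) = m ⊗ₜ lGen i φ hW a from e.symm_apply_apply (m ⊗ₜ lGen i φ hW a), TensorProduct.lift.tmul]
  exact psiExt_lGen i dA α hres φ hW m a

omit hres in
theorem span_tmul {W : X.Opens} (hW : IsAffineOpen W) :
    Submodule.span Γ(Y, i ⁻¹ᵁ W) (Set.range fun p : Γ(M, i ⁻¹ᵁ W) × (Fin q → idl i W) =>
      tmul p.1 (lGen i φ hW p.2)) = ⊤ := by
  rw [eq_top_iff]
  intro z _
  obtain ⟨t, rfl⟩ := (bijective_tmulMap (hW.preimage i) M L).2 z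
  clear * - t
  induction t using TensorProduct.induction_on with
  | zero => rw [map_zero]; exact Submodule.zero_mem _
  | add a b ha hb => rw [map_add]; exact Submodule.add_mem _ ha hb
  | tmul m l =>
    have hl : l ∈ Submodule.span Γ(Y, i ⁻¹ᵁ W) (Set.range fun a : Fin q → idl i W => lGen i φ hW a) := by
      rw [span_lGen]; trivial
    induction hl using Submodule.span_induction with
    | mem l hl => obtain ⟨a, rfl⟩ := hl; exact Submodule.subset_span ⟨(m, a), rfl⟩
    | zero => rw [TensorProduct.tmul_zero, map_zero]; exact Submodule.zero_mem _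
    | add a b _ _ ha hb => rw [TensorProduct.tmul_add, map_add]; exact Submodule.add_mem _ ha hb
    | smul c a _ ha => rw [TensorProduct.tmul_smul, map_smul]; exact Submodule.smul_mem _ c ha

include hφ in
/-- The product morphism on `Y`. -/
theorem exists_prodHom :
    ∃ θ : CohB1.tensorMod M L ⟶ Oq i dA q, ∀ (W : X.Opens) (hW : IsAffineOpen W) (m : Γ(M, i ⁻¹ᵁ W))
      (a : Fin q → idl i W), θ.app (i ⁻¹ᵁ W) (tmul m (lGen i φ hW a)) = psi i dA α hres m a := by
  let f : ∀ W : X.affineOpens, Γ((Scheme.Modules.pushforward i).obj (CohB1.tensorMod M L), W.1) →ₗ[Γ(X, W.1)]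
      Γ((Scheme.Modules.pushforward i).obj (Oq i dA q), W.1) := fun W =>
    { toFun := fun z => prodMap i dA α hres φ W.2 z
      map_add' := fun z z' => map_add (prodMap i dA α hres φ W.2) z z'
      map_smul' := fun r (z : Γ(CohB1.tensorMod M L, i ⁻¹ᵁ W.1)) => map_smul (prodMap i dA α hres φ W.2) (i.app W.1 r) z }
  obtain ⟨Φ, hΦ⟩ := InjMod14.Kosz.exists_hom_of_affine _ _ f fun U V h z => by
    have hle := ((Opens.map i.base).map (homOfLE h)).le
    show prodMap i dA α hres φ V.2 (resM (CohB1.tensorMod M L) hle z) =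
      resM (Oq i dA q) hle (prodMap i dA α hres φ U.2 z)
    have hz : z ∈ Submodule.span Γ(Y, i ⁻¹ᵁ U.1) (Set.range fun p : Γ(M, i ⁻¹ᵁ U.1) × (Fin q → idl i U.1) =>
        tmul p.1 (lGen i φ U.2 p.2)) := by
      rw [span_tmul]; trivial
    induction hz using Submodule.span_induction with
    | mem z hz =>
      obtain ⟨⟨m, a⟩, rfl⟩ := hz
      rw [prodMap_tmul, resM_tmul, psi_res i dA α hres h, FundLocal.lGen_res i φ hφ U.2 V.2 h, prodMap_tmul]
    | zero => simp only [map_zero]
    | add a b _ _ ha hb => simp only [map_add, ha, hb]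
    | smul c a _ ha => rw [resM_smul, map_smul, map_smul, ha, resM_smul]
  haveI : IsIso (Scheme.Modules.pullbackPushforwardAdjunction i).counit := by
    haveI := fun N => DCat.ClosedPush.isIso_counit i N
    exact NatIso.isIso_of_isIso_app _
  let hff := (Scheme.Modules.pullbackPushforwardAdjunction i).fullyFaithfulROfIsIsoCounit
  refine ⟨hff.preimage Φ, fun W hW m a => ?_⟩
  have h : ((Scheme.Modules.pushforward i).map (hff.preimage Φ)).app W (tmul m (lGen i φ hW a)) =
      psi i dA α hres m a := by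
    rw [hff.map_preimage, hΦ ⟨W, hW⟩]
    exact prodMap_tmul i dA α hres φ hW m a
  exact h

end Groth.Agent.KTor28
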