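import Groth.Agent.KTor28.Ring
import Groth.Agent.DCat.ClosedPush
import Groth.Agent.DCat.PullTensor
import Groth.Agent.FundLocal.Conormal

/-!
# The product map on a scheme

For a stalkwise flat resolution `A → N` of a module killed by the ideal of a closed subscheme `i : Y → X`,
sequences of sections of the ideal and sections of `N` give sections of `coker(i^* A_{q+1} → i^* A_q)`.
-/

set_option autoImplicit false
set_option linter.unusedSectionVars false
set_option linter.style.haveILetI false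
set_option backward.isDefEq.respectTransparency false
set_option backward.isDefEq.respectTransparency.types false
set_option maxHeartbeats 1000000

universe u

open CategoryTheory CategoryTheory.Limits AlgebraicGeometry Opposite TopologicalSpace
open Groth.Agent Groth.Agent.ModStalk Groth.Agent.Coherent Groth.Agent.PicLib
open Groth.Agent.Disc12.Koszul (K e0 top)

namespace Groth.Agent.KTor28

section Germs

variable {X : Scheme.{u}}

/-- Stalks of modules. -/
noncomputable abbrev st (x : X) (M : X.Modules) : ModuleCat.{u} (X.presheaf.stalk x) :=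
  (DerSch.stalkFunctor X x).obj M

/-- Germs of sections. -/
noncomputable def gm (M : X.Modules) {U : X.Opens} {x : X} (hx : x ∈ U) (s : Γ(M, U)) : st x M :=
  germP x (DCoh.toP.obj M) U hx s

theorem gm_add (M : X.Modules) {U : X.Opens} {x : X} (hx : x ∈ U) (s t : Γ(M, U)) :
    gm M hx (s + t) = gm M hx s + gm M hx t := germP_add _ U hx s t

theorem gm_zero (M : X.Modules) {U : X.Opens} {x : X} (hx : x ∈ U) : gm M hx (0 : Γ(M, U)) = 0 :=
  germP_zero _ U hx

theorem gm_smul (M : X.Modules) {U : X.Opens} {x : X} (hx : x ∈ U) (r : Γ(X, U)) (s : Γ(M, U)) :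
    gm M hx (r • s) = X.presheaf.germ U x hx r • gm M hx s := germP_smul _ U hx r s

theorem gm_sum (M : X.Modules) {U : X.Opens} {x : X} (hx : x ∈ U) {κ : Type*} (S : Finset κ) (s : κ → Γ(M, U)) :
    gm M hx (∑ k ∈ S, s k) = ∑ k ∈ S, gm M hx (s k) :=
  map_sum (AddMonoidHom.mk' (gm M hx) (gm_add M hx)) s S

theorem gm_res (M : X.Modules) {U V : X.Opens} (h : V ≤ U) {x : X} (hx : x ∈ V) (s : Γ(M, U)) :
    gm M hx (resM M h s) = gm M (h hx) s := germP_res _ (homOfLE h) hx s

theorem gm_map {M M' : X.Modules} (φ : M ⟶ M') {U : X.Opens} {x : X} (hx : x ∈ U) (s : Γ(M, U)) :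
    (DerSch.stalkFunctor X x).map φ (gm M hx s) = gm M' hx (φ.app U s) :=
  DCat.PullTensor.stalkMap_germP φ x U hx s

theorem exists_gm (M : X.Modules) {x : X} (t : st x M) :
    ∃ (U : X.Opens) (hx : x ∈ U) (s : Γ(M, U)), gm M hx s = t := exists_germP_eq (DCoh.toP.obj M) t

theorem gm_eq (M : X.Modules) {U : X.Opens} {x : X} (hx : x ∈ U) {s t : Γ(M, U)} (h : gm M hx s = gm M hx t) :
    ∃ (W : X.Opens) (hW : W ≤ U), x ∈ W ∧ resM M hW s = resM M hW t := by
  obtain ⟨W, hxW, i, j, he⟩ := germP_eq_iff (DCoh.toP.obj M) hx hx s t h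
  exact ⟨W, i.le, hxW, he⟩

theorem gm_ext (M : X.Modules) {U : X.Opens} {s t : Γ(M, U)} (h : ∀ x (hx : x ∈ U), gm M hx s = gm M hx t) :
    s = t :=
  TopCat.Presheaf.section_ext (⟨M.presheaf, M.isSheaf⟩ : TopCat.Sheaf Ab X) U s t h

/-- A family of germs that is locally given by sections is given by a section. -/
theorem exists_section_of_germs' (M : X.Modules) (W : X.Opens) (v : ∀ y : W, M.presheaf.stalk y.1)
    (h : ∀ y : W, ∃ (W' : X.Opens) (hle : W' ≤ W) (_ : y.1 ∈ W') (n : Γ(M, W')),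
      ∀ (z : X) (hz : z ∈ W'), M.presheaf.germ W' z hz n = v ⟨z, hle hz⟩) :
    ∃ n : Γ(M, W), ∀ y : W, M.presheaf.germ W y.1 y.2 n = v y := by
  choose W' hle hmem n hn using h
  let Fsh : TopCat.Sheaf Ab X := ⟨M.presheaf, M.isSheaf⟩
  obtain ⟨t, ht, -⟩ := Fsh.existsUnique_gluing' W' W (fun y => homOfLE (hle y))
    (fun y hy => TopologicalSpace.Opens.mem_iSup.2 ⟨⟨y, hy⟩, hmem ⟨y, hy⟩⟩) n (fun y y' => by
      refine TopCat.Presheaf.section_ext Fsh _ _ _ fun z hz => ?_
      exact ((TopCat.Presheaf.germ_res_apply M.presheaf _ _ hz _).trans (hn y z hz.1)).trans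
        ((TopCat.Presheaf.germ_res_apply M.presheaf _ _ hz _).trans (hn y' z hz.2)).symm)
  refine ⟨t, fun y => ?_⟩
  refine Eq.trans ?_ (hn y y.1 (hmem y))
  have := congrArg (M.presheaf.germ (W' y) y.1 (hmem y)) (ht y)
  exact (TopCat.Presheaf.germ_res_apply M.presheaf (homOfLE (hle y)) y.1 (hmem y) t).symm.trans this

theorem exists_sec (M : X.Modules) (W : X.Opens) (v : ∀ y : W, st y.1 M)
    (h : ∀ y : W, ∃ (W' : X.Opens) (hle : W' ≤ W) (_ : y.1 ∈ W') (n : Γ(M, W')),
      ∀ (z : X) (hz : z ∈ W'), gm M hz n = v ⟨z, hle hz⟩) :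
    ∃ n : Γ(M, W), ∀ y : W, gm M y.2 n = v y :=
  exists_section_of_germs' M W v h

/-- Finitely many conditions near a point hold on a common neighbourhood. -/
theorem exists_nbhd_all {κ : Type*} [Finite κ] (x : X) (U : X.Opens) (hx : x ∈ U) (P : κ → X.Opens → Prop)
    (hP : ∀ k (V V' : X.Opens), V' ≤ V → P k V → P k V') (h : ∀ k, ∃ V, V ≤ U ∧ x ∈ V ∧ P k V) :
    ∃ V, V ≤ U ∧ x ∈ V ∧ ∀ k, P k V := by
  classical
  haveI := Fintype.ofFinite κ
  choose V hV hxV hPV using h
  suffices ∀ S : Finset κ, ∃ V', V' ≤ U ∧ x ∈ V' ∧ ∀ k ∈ S, P k V' by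
    obtain ⟨V', h1, h2, h3⟩ := this Finset.univ
    exact ⟨V', h1, h2, fun k => h3 k (Finset.mem_univ k)⟩
  intro S
  induction S using Finset.induction with
  | empty => exact ⟨U, le_rfl, hx, fun k hk => absurd hk (Finset.notMem_empty k)⟩
  | insert k S hk ih =>
    obtain ⟨V', h1, h2, h3⟩ := ih
    refine ⟨V' ⊓ V k, inf_le_left.trans h1, ⟨h2, hxV k⟩, fun j hj => ?_⟩
    rcases Finset.mem_insert.1 hj with rfl | hj
    · exact hP _ _ _ inf_le_right (hPV _)
    · exact hP _ _ _ inf_le_left (h3 j hj)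

end Germs

variable {X Y : Scheme.{u}} (i : Y ⟶ X)

/-- The ideal of the closed subscheme in a local ring. -/
noncomputable abbrev IX (y : Y) : Ideal (X.presheaf.stalk (i.base y)) := RingHom.ker (i.stalkMap y).hom

theorem germ_mem_IX {W : X.Opens} {y : Y} (hy : i.base y ∈ W) {a : Γ(X, W)} (ha : i.app W a = 0) :
    X.presheaf.germ W (i.base y) hy a ∈ IX i y := by
  show i.stalkMap y (X.presheaf.germ W (i.base y) hy a) = 0
  rw [Scheme.Hom.germ_stalkMap_apply, ha, map_zero]

/-- The map from a stalk to the stalk of the inverse image. -/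
noncomputable def rho (y : Y) (M : X.Modules) (a : st (i.base y) M) : st y ((Scheme.Modules.pullback i).obj M) :=
  (pullbackStalkIso i y).inv.app M ((ModuleCat.extendRestrictScalarsAdj (i.stalkMap y).hom).unit.app (st (i.base y) M) a)

theorem rho_add (y : Y) (M : X.Modules) (a b : st (i.base y) M) : rho i y M (a + b) = rho i y M a + rho i y M b := by
  unfold rho
  rw [map_add]
  exact map_add ((pullbackStalkIso i y).inv.app M).hom _ _

theorem rho_smul (y : Y) (M : X.Modules) (r : X.presheaf.stalk (i.base y)) (a : st (i.base y) M) :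
    rho i y M (r • a) = i.stalkMap y r • rho i y M a := by
  unfold rho
  rw [map_smul]
  exact map_smul ((pullbackStalkIso i y).inv.app M).hom (i.stalkMap y r) _

theorem rho_nat (y : Y) {M M' : X.Modules} (φ : M ⟶ M') (a : st (i.base y) M) :
    (DerSch.stalkFunctor Y y).map ((Scheme.Modules.pullback i).map φ) (rho i y M a) =
      rho i y M' ((DerSch.stalkFunctor X (i.base y)).map φ a) := by
  have h1 := ConcreteCategory.congr_hom ((pullbackStalkIso i y).inv.naturality φ)
    ((ModuleCat.extendRestrictScalarsAdj (i.stalkMap y).hom).unit.app (st (i.base y) M) a)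
  have h2 := ConcreteCategory.congr_hom
    ((ModuleCat.extendRestrictScalarsAdj (i.stalkMap y).hom).unit.naturality ((DerSch.stalkFunctor X (i.base y)).map φ)) a
  unfold rho
  refine Eq.trans ?_ (congrArg ((pullbackStalkIso i y).inv.app M') h2.symm)
  exact h1.symm

theorem rho_gm (y : Y) (M : X.Modules) {U : X.Opens} (hy : i.base y ∈ U) (s : Γ(M, U)) :
    rho i y M (gm M hy s) = gm ((Scheme.Modules.pullback i).obj M) (U := i ⁻¹ᵁ U) hy (pullSec i s) := by
  refine (congrArg ((pullbackStalkIso i y).inv.app M) (DCat.PullTensor.pullbackStalk_germ i y M U hy s).symm).trans ?_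
  exact ConcreteCategory.congr_hom ((pullbackStalkIso i y).hom_inv_id_app M) _

variable [IsClosedImmersion i]

theorem rho_surjective (y : Y) (M : X.Modules) : Function.Surjective (rho i y M) := fun t => by
  obtain ⟨a, ha⟩ := DCat.ClosedPush.extend_unit_surjective (i.stalkMap y).hom (i.stalkMap_surjective y) _
    ((pullbackStalkIso i y).hom.app M t)
  exact ⟨a, (congrArg ((pullbackStalkIso i y).inv.app M) ha).trans
    (ConcreteCategory.congr_hom ((pullbackStalkIso i y).hom_inv_id_app M) t)⟩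

theorem rho_eq_zero_iff (y : Y) (M : X.Modules) (a : st (i.base y) M) :
    rho i y M a = 0 ↔ a ∈ IX i y • (⊤ : Submodule (X.presheaf.stalk (i.base y)) (st (i.base y) M)) := by
  refine ⟨fun h => ?_, fun h => ?_⟩
  · let φ := (i.stalkMap y).hom
    letI := φ.toAlgebra
    have h0 : (ModuleCat.extendRestrictScalarsAdj φ).unit.app (st (i.base y) M) a = 0 :=
      (ConcreteCategory.bijective_of_isIso ((pullbackStalkIso i y).inv.app M)).1 (h.trans (map_zero _).symm)
    have h1 : (1 : Y.presheaf.stalk y) ⊗ₜ[X.presheaf.stalk (i.base y)] a = 0 := h0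
    have hs : Function.Surjective (Algebra.ofId (X.presheaf.stalk (i.base y)) (Y.presheaf.stalk y)) :=
      i.stalkMap_surjective y
    let q := Ideal.quotientKerAlgEquivOfSurjective (f := Algebra.ofId (X.presheaf.stalk (i.base y)) (Y.presheaf.stalk y)) hs
    have h2 := congrArg (fun t => TensorProduct.quotTensorEquivQuotSMul _ _
      ((TensorProduct.congr q.symm.toLinearEquiv (LinearEquiv.refl _ (st (i.base y) M))) t)) h1
    simp only [TensorProduct.congr_tmul, LinearEquiv.refl_apply, map_zero, AlgEquiv.toLinearEquiv_apply, map_one,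
      TensorProduct.quotTensorEquivQuotSMul_mk_one_tmul, Submodule.Quotient.mk_eq_zero] at h2
    exact Submodule.smul_mono (fun r hr => hr) le_rfl h2
  · refine Submodule.smul_induction_on h (fun r hr b _ => ?_) (fun b c hb hc => ?_)
    · rw [rho_smul, show i.stalkMap y r = 0 from hr, zero_smul]
    · rw [rho_add, hb, hc, add_zero]

variable {A : ℕ → X.Modules} (dA : ∀ n, A (n + 1) ⟶ A n) {N : X.Modules} (α : A 0 ⟶ N)

/-- The cokernel on the subscheme. -/
noncomputable abbrev Oq (q : ℕ) : Y.Modules := cokernel ((Scheme.Modules.pullback i).map (dA q))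

/-- The projection to the cokernel. -/
noncomputable abbrev piO (q : ℕ) : (Scheme.Modules.pullback i).obj (A q) ⟶ Oq i dA q :=
  cokernel.π ((Scheme.Modules.pullback i).map (dA q))

/-- The differential on stalks. -/
noncomputable abbrev dst (x : X) (n : ℕ) : st x (A (n + 1)) →ₗ[X.presheaf.stalk x] st x (A n) :=
  ((DerSch.stalkFunctor X x).map (dA n)).hom

/-- The augmentation on stalks. -/
noncomputable abbrev ast (x : X) : st x (A 0) →ₗ[X.presheaf.stalk x] st x N :=
  ((DerSch.stalkFunctor X x).map α).hom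

/-- The map from a stalk to the stalk of the cokernel. -/
noncomputable def tau (y : Y) (q : ℕ) (a : st (i.base y) (A q)) : st y (Oq i dA q) :=
  (DerSch.stalkFunctor Y y).map (piO i dA q) (rho i y (A q) a)

theorem tau_add (y : Y) (q : ℕ) (a b : st (i.base y) (A q)) : tau i dA y q (a + b) = tau i dA y q a + tau i dA y q b := by
  unfold tau
  rw [rho_add, map_add]

theorem tau_smul (y : Y) (q : ℕ) (r : X.presheaf.stalk (i.base y)) (a : st (i.base y) (A q)) :
    tau i dA y q (r • a) = i.stalkMap y r • tau i dA y q a := by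
  unfold tau
  rw [rho_smul, map_smul]

theorem tau_surjective (y : Y) (q : ℕ) : Function.Surjective (tau i dA y q) := fun t => by
  obtain ⟨b, hb⟩ : ∃ b, (DerSch.stalkFunctor Y y).map (piO i dA q) b = t :=
    (ModuleCat.epi_iff_surjective _).1 inferInstance t
  obtain ⟨a, rfl⟩ := rho_surjective i y (A q) b
  exact ⟨a, hb⟩

theorem tau_eq_zero_iff (y : Y) (q : ℕ) (a : st (i.base y) (A q)) :
    tau i dA y q a = 0 ↔
      a ∈ LinearMap.range (dst dA (i.base y) q) ⊔ IX i y • (⊤ : Submodule (X.presheaf.stalk (i.base y)) (st (i.base y) (A q))) := by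
  refine ⟨fun h => ?_, fun h => ?_⟩
  · have hex : (ShortComplex.mk ((Scheme.Modules.pullback i).map (dA q)) (piO i dA q) (cokernel.condition _)).Exact :=
      ShortComplex.exact_of_g_is_cokernel _ (cokernelIsCokernel _)
    obtain ⟨b, hb⟩ := (ShortComplex.moduleCat_exact_iff _).1 (hex.map (DerSch.stalkFunctor Y y)) _ h
    obtain ⟨b, rfl⟩ := rho_surjective i y (A (q + 1)) b
    have hb' : (DerSch.stalkFunctor Y y).map ((Scheme.Modules.pullback i).map (dA q)) (rho i y (A (q + 1)) b) =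
        rho i y (A q) a := hb
    rw [rho_nat] at hb'
    have hz : rho i y (A q) (a - dst dA (i.base y) q b) = 0 := by
      have := rho_add i y (A q) (a - dst dA (i.base y) q b) (dst dA (i.base y) q b)
      rw [sub_add_cancel] at this
      exact add_eq_right.1 (this.symm.trans hb'.symm)
    rw [← sub_add_cancel a (dst dA (i.base y) q b)]
    exact Submodule.add_mem _ (Submodule.mem_sup_right ((rho_eq_zero_iff i y _ _).1 hz))
      (Submodule.mem_sup_left ⟨b, rfl⟩)
  · obtain ⟨_, ⟨b, rfl⟩, c, hc, rfl⟩ := Submodule.mem_sup.1 h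
    rw [tau_add, show tau i dA y q c = 0 by
      rw [tau, (rho_eq_zero_iff i y _ c).2 hc]; exact map_zero _, add_zero]
    show (DerSch.stalkFunctor Y y).map (piO i dA q) (rho i y (A q) _) = 0
    rw [← rho_nat, ← ConcreteCategory.comp_apply, ← Functor.map_comp, cokernel.condition, Functor.map_zero]
    rfl

/-- The quotient of a stalk. -/
noncomputable abbrev Qst (y : Y) (q : ℕ) : Type u :=
  Ring.Opq (P := fun n => ↥(st (i.base y) (A n))) (dst dA (i.base y)) (IX i y) q

/-- The map from the quotient of the stalk. -/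
noncomputable def theta (y : Y) (q : ℕ) (c : Qst i dA y q) : st y (Oq i dA q) :=
  tau i dA y q (Function.surjInv (Submodule.Quotient.mk_surjective _) c)

theorem theta_mk (y : Y) (q : ℕ) (a : st (i.base y) (A q)) :
    theta i dA y q (Submodule.Quotient.mk a) = tau i dA y q a := by
  obtain ⟨b, hb, hc⟩ : ∃ b, theta i dA y q (Submodule.Quotient.mk a) = tau i dA y q b ∧
      (Submodule.Quotient.mk b : Qst i dA y q) = Submodule.Quotient.mk a := ⟨_, rfl, Function.surjInv_eq _ _⟩
  have h' := (tau_eq_zero_iff i dA y q _).2 ((Submodule.Quotient.eq _).1 hc)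
  have := tau_add i dA y q (b - a) a
  rw [sub_add_cancel, h', zero_add] at this
  exact hb.trans this

theorem theta_add (y : Y) (q : ℕ) (c c' : Qst i dA y q) :
    theta i dA y q (c + c') = theta i dA y q c + theta i dA y q c' := by
  obtain ⟨a, rfl⟩ := Submodule.Quotient.mk_surjective _ c
  obtain ⟨b, rfl⟩ := Submodule.Quotient.mk_surjective _ c'
  rw [← Submodule.Quotient.mk_add, theta_mk, theta_mk, theta_mk, tau_add]

theorem theta_smul (y : Y) (q : ℕ) (r : X.presheaf.stalk (i.base y))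
    (c : Qst i dA y q) :
    theta i dA y q (r • c) = i.stalkMap y r • theta i dA y q c := by
  obtain ⟨a, rfl⟩ := Submodule.Quotient.mk_surjective _ c
  rw [← Submodule.Quotient.mk_smul, theta_mk, theta_mk, tau_smul]

theorem theta_zero (y : Y) (q : ℕ) : theta i dA y q 0 = 0 := by
  have h := theta_add i dA y q 0 0
  rw [add_zero] at h
  exact left_eq_add.1 h

/-- The germ of the product. -/
noncomputable def val {q : ℕ} {W : X.Opens} (m : Γ(N, W)) (a : Fin q → Γ(X, W)) (y : Y) (hy : i.base y ∈ W) :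
    st y (Oq i dA q) :=
  theta i dA y q (Ring.ψ (P := fun n => ↥(st (i.base y) (A n))) (dst dA (i.base y)) (ast α (i.base y)) (IX i y) (gm N hy m)
    fun j => X.presheaf.germ W (i.base y) hy (a j))

variable (hres : ∀ y, Ring.IsRes (P := fun n => ↥(st (i.base y) (A n))) (dst dA (i.base y)) (ast α (i.base y)))
  (hN : ∀ (y : Y), ∀ r ∈ IX i y, ∀ t : st (i.base y) N, r • t = 0)

include hres hN

theorem exists_val_near {q : ℕ} {W : X.Opens} (m : Γ(N, W)) (a : Fin q → Γ(X, W)) (ha : ∀ j, i.app W (a j) = 0)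
    (y₀ : Y) (hy₀ : i.base y₀ ∈ W) :
    ∃ (W' : X.Opens) (hW : W' ≤ W), i.base y₀ ∈ W' ∧ ∃ z : Γ(A q, W'),
      ∀ (y : Y) (hy : i.base y ∈ W'), val i dA α m a y (hW hy) = tau i dA y q (gm (A q) hy z) := by
  classical
  let ga : ∀ (y : Y) (_ : i.base y ∈ W), Fin q → X.presheaf.stalk (i.base y) := fun y hy j =>
    X.presheaf.germ W (i.base y) hy (a j)
  obtain ⟨u, hu⟩ := Ring.exists_wit (P := fun n => ↥(st (i.base y₀) (A n))) (hres y₀) (ga y₀ hy₀) (gm N hy₀ m)
    fun j => hN y₀ _ (germ_mem_IX i hy₀ (ha j)) _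
  let κ := Σ p : Fin (q + 1), (Fin (p : ℕ) → Fin q)
  choose U hU s hs using fun k : κ =>
    exists_gm (A k.1) (u k.1 (exteriorPower.ιMulti _ k.1 (Ring.stdVec k.2)))
  obtain ⟨W₁, hW₁, hx₁, hlift⟩ := exists_nbhd_all (i.base y₀) W hy₀ (fun (k : κ) V => V ≤ U k)
    (fun _ _ _ h1 h2 => h1.trans h2) (fun k => ⟨W ⊓ U k, inf_le_left, ⟨hy₀, hU k⟩, inf_le_right⟩)
  let v : ∀ p, (Fin p → Fin q) → Γ(A p, W₁) := fun p c =>
    if hp : p < q + 1 then resM (A p) (hlift ⟨⟨p, hp⟩, c⟩) (s ⟨⟨p, hp⟩, c⟩) else 0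
  have hv : ∀ p, p < q + 1 → ∀ c : Fin p → Fin q,
      gm (A p) hx₁ (v p c) = u p (exteriorPower.ιMulti _ p (Ring.stdVec c)) := fun p hp c => by
    simp only [v, dif_pos hp]
    rw [gm_res]
    exact hs ⟨⟨p, hp⟩, c⟩
  let κ' := Σ p : Fin q, (Fin ((p : ℕ) + 1) → Fin q)
  let rhs : ∀ k : κ', Γ(A k.1, W₁) := fun k => ∑ j : Fin ((k.1 : ℕ) + 1),
    ((-1 : Γ(X, W₁)) ^ (j : ℕ) * X.presheaf.map (homOfLE hW₁).op (a (k.2 j))) • v k.1 (fun l => k.2 (j.succAbove l))
  have hrhs : ∀ (y : Y) (hy : i.base y ∈ W₁) (k : κ'), gm (A k.1) hy (rhs k) =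
      ∑ j : Fin ((k.1 : ℕ) + 1), ((-1 : X.presheaf.stalk (i.base y)) ^ (j : ℕ) * ga y (hW₁ hy) (k.2 j)) •
        gm (A k.1) hy (v k.1 fun l => k.2 (j.succAbove l)) := fun y hy k => by
    simp only [rhs]
    rw [gm_sum]
    refine Finset.sum_congr rfl fun j _ => ?_
    rw [gm_smul, map_mul, map_pow, map_neg, map_one]
    exact congrArg (fun t => (_ * t) • _) (X.presheaf.germ_res_apply (homOfLE hW₁) _ hy (a (k.2 j)))
  obtain ⟨W₂, hW₂, hx₂, hrel⟩ := exists_nbhd_all (i.base y₀) W₁ hx₁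
    (fun (k : κ') V => ∃ hV : V ≤ W₁,
      resM (A k.1) hV ((dA k.1).app W₁ (v ((k.1 : ℕ) + 1) k.2)) = resM (A k.1) hV (rhs k))
    (fun _ _ _ h1 ⟨hV, h2⟩ => ⟨h1.trans hV, by rw [← resM_resM _ hV h1, h2, resM_resM]⟩) (fun k => by
      obtain ⟨V, hV, hxV, he⟩ := gm_eq (A k.1) hx₁
        (s := (dA k.1).app W₁ (v ((k.1 : ℕ) + 1) k.2)) (t := rhs k) <| by
        rw [hrhs, ← gm_map (dA k.1) hx₁, hv _ (Nat.succ_lt_succ k.1.2)]
        refine (Ring.wit_rel hu k.1 k.2).trans (Finset.sum_congr rfl fun j _ => ?_)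
        rw [hv _ (k.1.2.trans (Nat.lt_succ_self q))]
      exact ⟨V, hV, hxV, hV, he⟩)
  obtain ⟨W₃, hW₃, hx₃, h0⟩ := gm_eq N hx₂
    (s := α.app W₂ (resM (A 0) hW₂ (v 0 Fin.elim0))) (t := resM N (hW₂.trans hW₁) m) <| by
    rw [← gm_map α hx₂, gm_res, gm_res, hv 0 (Nat.succ_pos q), Ring.e0_one]
    exact hu.1
  refine ⟨W₃, hW₃.trans (hW₂.trans hW₁), hx₃, resM (A q) (hW₃.trans hW₂) (v q id), fun y hy => ?_⟩
  obtain ⟨u', hu', hu'v⟩ := Ring.exists_wit_of_values (P := fun n => ↥(st (i.base y) (A n)))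
    (δ := dst dA (i.base y)) (π := ast α (i.base y)) (ga y (hW₁ (hW₂ (hW₃ hy))))
    (gm N (hW₁ (hW₂ (hW₃ hy))) m) (fun p c => gm (A p) (hW₂ (hW₃ hy)) (v p c))
    (fun c => by
      obtain rfl : c = Fin.elim0 := funext fun l => l.elim0
      have h1 := congrArg (gm N hy) h0
      rw [gm_res, ← gm_map α (hW₃ hy), gm_res, gm_res, gm_res] at h1
      exact h1)
    (fun p c hc => by
      have hp : p < q := by
        have := Fintype.card_le_of_injective c hc.injective
        simp only [Fintype.card_fin] at this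
        omega
      obtain ⟨hV, he⟩ := hrel ⟨⟨p, hp⟩, c⟩
      have h1 := congrArg (gm (A p) (hW₃ hy)) he
      rw [gm_res, gm_res] at h1
      exact ((gm_map (dA p) (hW₂ (hW₃ hy)) _).trans h1).trans (hrhs y (hW₂ (hW₃ hy)) ⟨⟨p, hp⟩, c⟩))
  show theta i dA y q _ = _
  rw [Ring.ψ_eq (hres y) (fun j => germ_mem_IX i (hW₁ (hW₂ (hW₃ hy))) (ha j)) hu' (fun j => Pi.single j 1)
      (fun j => Disc12.Koszul.functional_single _ j), theta_mk]
  exact congrArg _ ((hu'v q id strictMono_id).trans (gm_res (A q) (hW₃.trans hW₂) hy (v q id)).symm)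

theorem exists_psiSec {q : ℕ} {W : X.Opens} (m : Γ(N, W)) (a : Fin q → Γ(X, W)) (ha : ∀ j, i.app W (a j) = 0) :
    ∃ z : Γ(Oq i dA q, i ⁻¹ᵁ W), ∀ y : (i ⁻¹ᵁ W : Y.Opens),
      gm (Oq i dA q) y.2 z = val i dA α m a y.1 y.2 :=
  exists_sec (Oq i dA q) (i ⁻¹ᵁ W) (fun y => val i dA α m a y.1 y.2) fun y => by
    obtain ⟨W', hW, hy', z, hz⟩ := exists_val_near i dA α hres hN m a ha y.1 y.2
    refine ⟨i ⁻¹ᵁ W', fun w hw => hW hw, hy', (piO i dA q).app (i ⁻¹ᵁ W') (pullSec i z), fun w hw => ?_⟩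
    rw [← gm_map, ← rho_gm]
    exact (hz w hw).symm

end Groth.Agent.KTor28
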